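/-
Centralisers of an element of order five and of a fixed-point-free involution on twelve points.
-/
import Cfsg.Agent.Lib.SimpleM12.Five
import Cfsg.Agent.Lib.Golay.Mathieu

set_option autoImplicit false
set_option maxRecDepth 100000
set_option linter.style.haveILetI false
set_option linter.unusedSectionVars false

namespace CfsgM12Det

open Cfsg Subgroup

section
variable {G : Type*} [Group G] [Fintype G] {X : Type*} [Fintype X] [DecidableEq X]
  (ρ : G →* Equiv.Perm X)

/-- Five fixed points force the identity. -/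
def FiveTrivial : Prop := ∀ g : G, ∀ s : Finset X, 5 ≤ s.card → (∀ x ∈ s, ρ g x = x) → g = 1

/-- The fixed points. -/
def fixSet (g : G) : Finset X := Finset.univ.filter fun x => ρ g x = x

variable {ρ}

theorem mem_fixSet {g : G} {x : X} : x ∈ fixSet ρ g ↔ ρ g x = x := by simp [fixSet]

theorem fixSet_le (h5 : FiveTrivial ρ) {g : G} (hg : g ≠ 1) : (fixSet ρ g).card ≤ 4 := by
  by_contra hc
  exact hg (h5 g _ (not_le.mp hc) fun x hx => mem_fixSet.mp hx)

theorem rho_inj (hX : Fintype.card X = 12) (h5 : FiveTrivial ρ) : Function.Injective ρ := fun g k h => by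
  refine inv_mul_eq_one.mp (h5 _ Finset.univ (by rw [Finset.card_univ, hX]; norm_num) fun x _ => ?_)
  rw [map_mul, map_inv, h, inv_mul_cancel]; rfl

theorem fixSet_comm {g k : G} (hc : Commute g k) {x : X} (hx : x ∈ fixSet ρ g) : ρ k x ∈ fixSet ρ g := by
  rw [mem_fixSet] at hx ⊢
  rw [← Equiv.Perm.mul_apply, ← map_mul, hc.eq, map_mul, Equiv.Perm.mul_apply, hx]

theorem fixSet_five (hX : Fintype.card X = 12) (h5 : FiveTrivial ρ) {u : G} (hu : orderOf u = 5) :
    (fixSet ρ u).card = 2 := by
  have hu1 : u ≠ 1 := fun e => by rw [e, orderOf_one] at hu; norm_num at hu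
  have hle := fixSet_le h5 hu1
  have ho : orderOf (ρ u) = 5 := by rw [orderOf_injective ρ (rho_inj hX h5), hu]
  obtain ⟨n, hn⟩ := Equiv.Perm.cycleType_prime_order (σ := ρ u) (by rw [ho]; norm_num)
  have hs := Equiv.Perm.sum_cycleType (ρ u)
  rw [hn, ho, Multiset.sum_replicate, smul_eq_mul] at hs
  have hpart : (fixSet ρ u).card + (ρ u).support.card = 12 := by
    rw [← hX, ← Finset.card_univ]
    have e : (ρ u).support = Finset.univ.filter fun x => ¬ ρ u x = x := by
      ext x; simp [Equiv.Perm.mem_support]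
    rw [e, fixSet]
    exact Finset.card_filter_add_card_filter_not (s := Finset.univ) (p := fun x => ρ u x = x)
  omega

theorem sign_eq_one (hG : IsM12 G) (g : G) : Equiv.Perm.sign (ρ g) = 1 := by
  rcases CfsgSimpleM12.normal_cases hG (MonoidHom.normal_ker (Equiv.Perm.sign.comp ρ)) with h | h
  · exfalso
    have := Nat.card_le_card_of_injective _ ((MonoidHom.ker_eq_bot_iff _).mp h)
    rw [CfsgSimpleM12.card_eq hG, Nat.card_eq_fintype_card, Fintype.card_units_int] at this
    norm_num at this
  · exact MonoidHom.mem_ker.mp (h ▸ mem_top g : g ∈ (Equiv.Perm.sign.comp ρ).ker)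

theorem five_arith_one : ∀ e ∈ ([2, 4] : List ℕ), 1 * e % 5 ≠ 3 := by decide

theorem ten_arith : ∀ e ∈ Nat.divisors 4, 2 * e % 5 = 3 → e = 4 := by decide +kernel

/-- The centraliser and normaliser of an element of order five, and an involution centralising it. -/
theorem five_data (hG : IsM12 G) (hX : Fintype.card X = 12) (h5 : FiveTrivial ρ) {u : G}
    (hu : orderOf u = 5) :
    Nat.card (centralizer ({u} : Set G)) = 10 ∧
      40 ≤ Nat.card (normalizer ((zpowers u : Subgroup G) : Set G)) ∧
      ∃ t : G, orderOf t = 2 ∧ Commute u t ∧ fixSet ρ t = ∅ := by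
  classical
  haveI : Fact (Nat.Prime 5) := ⟨by norm_num⟩
  set F := fixSet ρ u with hFdef
  have hF : F.card = 2 := fixSet_five hX h5 hu
  obtain ⟨p, q, hpq, hFpq⟩ := Finset.card_eq_two.mp hF
  set σ := ρ u with hσ
  set C := centralizer ({u} : Set G) with hC
  have hCc : ∀ c : C, Commute u (c : G) := fun c => (mem_centralizer_singleton_iff.mp c.2).symm
  have hmemF : ∀ c : C, ρ c p = p ∨ ρ c p = q := fun c => by
    have := fixSet_comm (hCc c) (show p ∈ fixSet ρ u by rw [← hFdef, hFpq]; simp)
    rw [← hFdef, hFpq, Finset.mem_insert, Finset.mem_singleton] at this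
    exact this
  have hqfix : ∀ c : C, ρ c p = p → ρ c q = q := fun c hc => by
    have := fixSet_comm (hCc c) (show q ∈ fixSet ρ u by rw [← hFdef, hFpq]; simp)
    rw [← hFdef, hFpq, Finset.mem_insert, Finset.mem_singleton] at this
    refine this.resolve_left fun e => hpq ((ρ c).injective (hc.trans e.symm))
  -- five points around a point moved by `u`
  have hfive : ∀ x, x ∉ F → ({p, q, x, σ x, σ (σ x)} : Finset X).card = 5 := by
    intro x hx
    have hxp : x ≠ p ∧ x ≠ q := by simpa [hFpq] using hx
    have hx1 : σ x ≠ x := fun e => hx (mem_fixSet.mpr e)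
    have hp : σ p = p := mem_fixSet.mp (by rw [← hFdef, hFpq]; simp)
    have hq : σ q = q := mem_fixSet.mp (by rw [← hFdef, hFpq]; simp)
    have hx2 : σ (σ x) ≠ x := fun e => hx1 (by
      have h5' : σ ^ 5 = 1 := by rw [hσ, ← map_pow, ← hu, pow_orderOf_eq_one, map_one]
      have := congrArg (fun f : Equiv.Perm X => f x) h5'
      simp only [pow_succ, pow_zero, one_mul, Equiv.Perm.mul_apply, Equiv.Perm.one_apply, e] at this
      exact this)
    rw [Finset.card_insert_of_notMem, Finset.card_insert_of_notMem, Finset.card_insert_of_notMem,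
      Finset.card_insert_of_notMem, Finset.card_singleton]
    · simp only [Finset.mem_singleton]; exact fun e => hx1 (σ.injective e).symm
    · simp only [Finset.mem_insert, Finset.mem_singleton, not_or]; exact ⟨fun e => hx1 e.symm, fun e => hx2 e.symm⟩
    · simp only [Finset.mem_insert, Finset.mem_singleton, not_or]
      exact ⟨fun e => hxp.2 e.symm, fun e => hxp.2 (σ.injective (e.symm.trans hq.symm)),
        fun e => hxp.2 (σ.injective (σ.injective (e.symm.trans (by rw [hq, hq]))))⟩
    · simp only [Finset.mem_insert, Finset.mem_singleton, not_or]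
      exact ⟨hpq, fun e => hxp.1 e.symm, fun e => hxp.1 (σ.injective (e.symm.trans hp.symm)),
        fun e => hxp.1 (σ.injective (σ.injective (e.symm.trans (by rw [hp, hp]))))⟩
  -- the stabiliser of `p` in the centraliser
  let H : Subgroup C :=
    { carrier := {c | ρ c p = p}
      one_mem' := by simp
      mul_mem' := fun {a b} ha hb => by
        simp only [Set.mem_setOf_eq, Subgroup.coe_mul, map_mul, Equiv.Perm.mul_apply] at ha hb ⊢
        rw [hb, ha]
      inv_mem' := fun {a} ha => by
        simp only [Set.mem_setOf_eq, Subgroup.coe_inv, map_inv] at ha ⊢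
        rw [Equiv.Perm.inv_def, Equiv.symm_apply_eq, ha] }
  have htriv : ∀ c : C, ρ c p = p → ∀ x, x ∉ F → ρ c x = x → (c : G) = 1 := by
    intro c hc x hx hcx
    refine h5 _ ({p, q, x, σ x, σ (σ x)} : Finset X) (hfive x hx).ge fun y hy => ?_
    have hs : ∀ y, ρ c y = y → ρ c (σ y) = σ y := fun y hy => by
      rw [hσ, ← Equiv.Perm.mul_apply, ← map_mul, ← (hCc c).eq, map_mul, Equiv.Perm.mul_apply, hy]
    simp only [Finset.mem_insert, Finset.mem_singleton] at hy
    rcases hy with rfl | rfl | rfl | rfl | rfl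
    exacts [hc, hqfix c hc, hcx, hs _ hcx, hs _ (hs _ hcx)]
  have hcomp : Fintype.card {x : X // x ∉ F} = 10 := by
    rw [Fintype.card_subtype_compl, Fintype.card_coe, hX, hF]
  obtain ⟨x0, hx0⟩ : ∃ x, x ∉ F := by
    obtain ⟨⟨x, hx⟩⟩ := Fintype.card_pos_iff.mp (by rw [hcomp]; norm_num : 0 < Fintype.card {x : X // x ∉ F})
    exact ⟨x, hx⟩
  have hH10 : Nat.card H ≤ 10 := by
    have hout : ∀ c : C, ρ c x0 ∉ F := fun c h => hx0 (by
      have h1 := fixSet_comm (hCc (c⁻¹)) h
      simpa using h1)
    refine (Nat.card_le_card_of_injective (fun c : H => (⟨ρ (c : C) x0, hout _⟩ : {x : X // x ∉ F})) ?_).trans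
      (le_of_eq (by rw [Nat.card_eq_fintype_card, hcomp]))
    intro c d e
    have e' : ρ (c : C) x0 = ρ (d : C) x0 := congrArg Subtype.val e
    have h1 : ρ ((d⁻¹ * c : H) : C) x0 = x0 := by
      simp only [Subgroup.coe_mul, Subgroup.coe_inv, map_mul, map_inv, Equiv.Perm.mul_apply]
      rw [e']; simp
    have := htriv _ (d⁻¹ * c).2 x0 hx0 h1
    exact (inv_mul_eq_one.mp (Subtype.ext (Subtype.ext this) : d⁻¹ * c = 1)).symm
  have huC : u ∈ C := mem_centralizer_singleton_iff.mpr rfl
  have huH : (⟨u, huC⟩ : C) ∈ H := mem_fixSet.mp (by rw [← hFdef, hFpq]; simp)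
  have hH5 : 5 ∣ Nat.card H := by
    have := Subgroup.orderOf_dvd_natCard H huH
    rwa [← Subgroup.orderOf_coe, hu] at this
  have hH2 : ¬ 2 ∣ Nat.card H := by
    intro h2
    haveI : Fact (Nat.Prime 2) := ⟨Nat.prime_two⟩
    obtain ⟨g, hg⟩ := exists_prime_orderOf_dvd_card' 2 h2
    have hgo : orderOf ((g : C) : G) = 2 := by rw [Subgroup.orderOf_coe, Subgroup.orderOf_coe, hg]
    have hg1 : ((g : C) : G) ≠ 1 := fun e => by rw [e, orderOf_one] at hgo; norm_num at hgo
    have hsupp : (ρ (g : C)).support = Finset.univ \ F := by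
      ext x
      simp only [Equiv.Perm.mem_support, Finset.mem_sdiff, Finset.mem_univ, true_and]
      constructor
      · intro h hx
        rw [hFpq, Finset.mem_insert, Finset.mem_singleton] at hx
        rcases hx with rfl | rfl
        · exact h g.2
        · exact h (hqfix _ g.2)
      · exact fun hx h => hg1 (htriv _ g.2 x hx h)
    have ho : orderOf (ρ (g : C)) = 2 := by rw [orderOf_injective ρ (rho_inj hX h5), hgo]
    obtain ⟨n, hn⟩ := Equiv.Perm.cycleType_prime_order (σ := ρ (g : C)) (by rw [ho]; exact Nat.prime_two)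
    have hs := Equiv.Perm.sum_cycleType (ρ (g : C))
    rw [hn, ho, Multiset.sum_replicate, smul_eq_mul, hsupp, Finset.card_sdiff, Finset.inter_univ,
      Finset.card_univ, hX, hF] at hs
    have h := sign_eq_one (ρ := ρ) hG (g : C)
    rw [Equiv.Perm.sign_of_cycleType, hn, ho, Multiset.sum_replicate, Multiset.card_replicate,
      show n = 4 by omega] at h
    exact absurd h (by decide)
  have hHcard : Nat.card H = 5 := by
    obtain ⟨j, hj⟩ := hH5
    have : 0 < Nat.card H := Nat.card_pos
    have : j = 1 ∨ j = 2 := by omega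
    rcases this with rfl | rfl
    · exact hj
    · exact absurd ⟨5, hj⟩ hH2
  have hidx : H.index ≤ 2 := by
    rw [Subgroup.index_eq_card]
    let f : C ⧸ H → Bool := fun c => decide (ρ (c.out : C) p = p)
    refine (Nat.card_le_card_of_injective f ?_).trans (le_of_eq (by rw [Nat.card_eq_fintype_card]; rfl))
    intro a b e
    rw [← QuotientGroup.out_eq' a, ← QuotientGroup.out_eq' b, QuotientGroup.eq]
    show ρ ((a.out⁻¹ * b.out : C) : G) p = p
    have e2 : ρ (a.out : C) p = ρ (b.out : C) p := by
      simp only [f, decide_eq_decide] at e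
      rcases hmemF a.out with h | h
      · rw [h, e.mp h]
      · rcases hmemF b.out with h' | h'
        · exact absurd (e.mpr h') (by rw [h]; exact fun e' => hpq e'.symm)
        · rw [h, h']
    simp only [Subgroup.coe_mul, Subgroup.coe_inv, map_mul, map_inv, Equiv.Perm.mul_apply]
    rw [← e2]; simp
  have hCle : Nat.card C = 5 ∨ Nat.card C = 10 := by
    have h := H.card_mul_index
    have : 0 < H.index := Nat.pos_of_ne_zero Subgroup.index_ne_zero_of_finite
    rw [hHcard] at h
    omega
  -- the normaliser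
  obtain ⟨P, hP⟩ := (IsPGroup.of_card (n := 1)
    (show Nat.card (zpowers u) = 5 ^ 1 by rw [Nat.card_zpowers, hu, pow_one])).exists_le_sylow
  have hP5 := CfsgSimpleM12.card_sylow5 hG P
  have hPu : zpowers u = (P : Subgroup G) :=
    eq_of_le_of_card_ge hP (by rw [hP5, Nat.card_zpowers, hu])
  haveI : IsCyclic (P : Subgroup G) := isCyclic_of_prime_card hP5
  set N := normalizer ((P : Subgroup G) : Set G) with hN
  have hCP : centralizer ((P : Subgroup G) : Set G) = C := by rw [← hPu, CfsgSimpleM11.cent_zpowers]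
  have hle : C ≤ N := hCP ▸ centralizer_le_normalizer _
  obtain ⟨e, he⟩ := card_dvd_of_le hle
  have he4 : e ∣ 4 := by
    have h1 := (normalizerMonoidHom (P : Subgroup G)).ker.card_mul_index
    have h2 : Nat.card (normalizerMonoidHom (P : Subgroup G)).range ∣ 4 := by
      refine (card_subgroup_dvd_card _).trans ?_
      rw [IsCyclic.card_mulAut, hP5]
      decide
    rw [index_ker, normalizerMonoidHom_ker, hCP, Nat.card_congr (subgroupOfEquivOfLe hle).toEquiv] at h1
    have h1' : Nat.card C * Nat.card (normalizerMonoidHom (P : Subgroup G)).range = Nat.card C * e := h1.trans he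
    rwa [mul_left_cancel₀ Nat.card_pos.ne' h1'] at h2
  have he1 : e ≠ 1 := fun h => by
    rw [h, mul_one] at he
    refine CfsgSimpleM12.no_transfer hG P (by rw [hP5]; norm_num) (by rw [hP5]; norm_num) ?_
    rw [hCP]
    exact (eq_of_le_of_card_ge hle he.le).ge
  have hmod : ∀ k, Nat.card C = 5 * k → k * e % 5 = 3 := by
    intro k hk
    have h1 := N.card_mul_index
    have h0 : N.index = Nat.card (Sylow 5 G) := P.card_eq_index_normalizer.symm
    rw [h0, he, hk, CfsgSimpleM12.card_eq hG] at h1
    have h2 := card_sylow_modEq_one 5 G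
    have h3 : k * e * Nat.card (Sylow 5 G) = 19008 :=
      Nat.eq_of_mul_eq_mul_left (show 0 < 5 by norm_num) (by rw [show 5 * 19008 = 95040 from rfl, ← h1]; ring)
    have h4 := congrArg (· % 5) h3
    simp only [Nat.ModEq] at h2
    rw [Nat.mul_mod, h2] at h4
    norm_num at h4
    exact h4
  have hC10 : Nat.card C = 10 := by
    refine hCle.resolve_left fun h => ?_
    have hem : e ∈ ([2, 4] : List ℕ) := by
      have key : ∀ m ∈ Nat.divisors 4, m ≠ 1 → m ∈ ([2, 4] : List ℕ) := by decide +kernel
      exact key e (Nat.mem_divisors.2 ⟨he4, by norm_num⟩) he1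
    exact five_arith_one e hem (hmod 1 (by rw [h]))
  refine ⟨hC10, ?_, ?_⟩
  · have := ten_arith e (Nat.mem_divisors.2 ⟨he4, by norm_num⟩) (hmod 2 hC10)
    rw [hPu, ← hN, he, hC10, this]
  obtain ⟨t, ht⟩ := exists_prime_orderOf_dvd_card' (G := C) 2 (by rw [hC10]; norm_num)
  have hto : orderOf (t : G) = 2 := by rw [Subgroup.orderOf_coe, ht]
  refine ⟨t, hto, hCc t, Finset.eq_empty_iff_forall_notMem.mpr fun x hx => ?_⟩
  have htp : ρ t p ≠ p := fun e => hH2 (by
    have := Subgroup.orderOf_dvd_natCard H (show t ∈ H from e)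
    rwa [ht] at this)
  have hxF : x ∉ F := by
    intro h
    rw [hFpq, Finset.mem_insert, Finset.mem_singleton] at h
    rw [mem_fixSet] at hx
    rcases h with rfl | rfl
    · exact htp hx
    · exact htp ((hmemF t).resolve_right fun e => hpq ((ρ t).injective (e.trans hx.symm)))
  have ht1 : (t : G) ≠ 1 := fun e => by rw [e, orderOf_one] at hto; norm_num at hto
  refine ht1 (h5 _ (fixSet ρ t) ?_ fun y hy => mem_fixSet.mp hy)
  have h1 : ∀ k : ℕ, (σ ^ k) x ∈ fixSet ρ t := fun k => by
    rw [hσ, ← map_pow]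
    exact fixSet_comm ((hCc t).symm.pow_right k) hx
  have hinj : Function.Injective fun k : Fin 5 => (σ ^ (k : ℕ)) x := by
    have h5' : σ ^ 5 = 1 := by rw [hσ, ← map_pow, ← hu, pow_orderOf_eq_one, map_one]
    have hk : ∀ k, 0 < k → k < 5 → (σ ^ k) x ≠ x := fun k h0 h5k e => hxF (mem_fixSet.mpr (by
      obtain ⟨m, hm⟩ : ∃ m, k * m % 5 = 1 := (show ∀ k < 5, 0 < k → ∃ m, k * m % 5 = 1 from fun k h h' => by
        interval_cases k
        exacts [⟨1, rfl⟩, ⟨3, rfl⟩, ⟨2, rfl⟩, ⟨4, rfl⟩]) k h5k h0
      have h2 : ((σ ^ k) ^ m) x = x := Equiv.Perm.pow_apply_eq_self_of_apply_eq_self e m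
      rwa [← pow_mul, ← Nat.mod_add_div (k * m) 5, hm, pow_add, pow_mul, h5', one_pow, mul_one, pow_one] at h2))
    intro i j hij
    simp only at hij
    by_contra hne
    rcases lt_or_gt_of_ne hne with h | h
    · refine hk ((j : ℕ) - i) (by omega) (by omega) ((σ ^ (i : ℕ)).injective ?_)
      rw [← Equiv.Perm.mul_apply, ← pow_add, show (i : ℕ) + ((j : ℕ) - i) = j by omega, hij]
    · refine hk ((i : ℕ) - j) (by omega) (by omega) ((σ ^ (j : ℕ)).injective ?_)
      rw [← Equiv.Perm.mul_apply, ← pow_add, show (j : ℕ) + ((i : ℕ) - j) = i by omega, hij]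
  have := Finset.card_le_card_of_injOn (s := (Finset.univ : Finset (Fin 5))) (t := fixSet ρ t)
    (fun k : Fin 5 => (σ ^ (k : ℕ)) x) (fun k _ => h1 k) hinj.injOn
  simpa using this

/-- A 3-cycle on six points as a product of two five-cycles. -/
theorem three_of_fives : ∃ c x : Equiv.Perm (Fin 6), c ^ 5 = 1 ∧ x ^ 5 = 1 ∧ (c * x) ^ 3 = 1 ∧
    (c * x) ^ 2 ≠ 1 ∧ ∀ i : Fin 6, 3 ≤ i → (c * x) i = i := by
  refine ⟨Equiv.mk ![1, 2, 3, 4, 0, 5] ![4, 0, 1, 2, 3, 5] (by decide) (by decide),
    Equiv.mk ![1, 4, 0, 2, 3, 5] ![2, 0, 3, 4, 1, 5] (by decide) (by decide), ?_⟩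
  decide +kernel

/-- A subgroup of permutations of six points without three-cycles has index at least five. -/
theorem index_of_no_three {Y : Type*} [Fintype Y] [DecidableEq Y] (e : Fin 6 ≃ Y)
    (H : Subgroup (Equiv.Perm Y))
    (hno : ∀ h ∈ H, h ^ 3 = 1 → (∀ i : Fin 6, 3 ≤ i → h (e i) = e i) → h ^ 2 = 1) : 5 ≤ H.index := by
  classical
  by_contra hlt
  have hall : ∀ h : Equiv.Perm Y, h ^ 5 = 1 → h ∈ H := by
    intro h h5
    have hn : MulAction.toPermHom (Equiv.Perm Y) (Equiv.Perm Y ⧸ H) h = 1 := by
      rw [← orderOf_eq_one_iff]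
      set π := MulAction.toPermHom (Equiv.Perm Y) (Equiv.Perm Y ⧸ H) h with hπ
      have hd : orderOf π ∣ 5 := orderOf_dvd_of_pow_eq_one (by rw [hπ, ← map_pow, h5, map_one])
      have hd' : orderOf π ∣ (Nat.card (Equiv.Perm Y ⧸ H)).factorial := by
        rw [← Nat.card_perm]; exact orderOf_dvd_natCard π
      rcases (Nat.dvd_prime (by norm_num : Nat.Prime 5)).mp hd with e1 | e1
      · exact e1
      · rw [e1, ← Subgroup.index_eq_card] at hd'
        have := (Nat.Prime.dvd_factorial (by norm_num : Nat.Prime 5)).mp hd'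
        omega
    have h1 := congrArg (fun f => f ((1 : Equiv.Perm Y) : Equiv.Perm Y ⧸ H)) hn
    simp only [MulAction.toPermHom_apply, MulAction.toPerm_apply, Equiv.Perm.one_apply] at h1
    rw [show h • ((1 : Equiv.Perm Y) : Equiv.Perm Y ⧸ H) = ((h * 1 : Equiv.Perm Y) : Equiv.Perm Y ⧸ H) from rfl,
      mul_one, QuotientGroup.eq, mul_one] at h1
    exact inv_mem_iff.mp h1
  obtain ⟨c, x, hc, hx, h3, h2, hfix⟩ := three_of_fives
  let φ : Equiv.Perm (Fin 6) ≃* Equiv.Perm Y := e.permCongrHom
  have hm : φ (c * x) ∈ H := by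
    rw [map_mul]
    exact mul_mem (hall _ (by rw [← map_pow, hc, map_one])) (hall _ (by rw [← map_pow, hx, map_one]))
  refine h2 (φ.injective ?_)
  rw [map_pow, map_one]
  refine hno _ hm (by rw [← map_pow, h3, map_one]) fun i hi => ?_
  simp only [φ, Equiv.permCongrHom_coe, Equiv.permCongr_apply, Equiv.symm_apply_apply, hfix i hi]

/-- The centraliser of a fixed-point-free involution has order at most 288. -/
theorem cent_free_le (hX : Fintype.card X = 12) (h5 : FiveTrivial ρ) {t : G}
    (ht : orderOf t = 2) (hfree : fixSet ρ t = ∅) : Nat.card (centralizer ({t} : Set G)) ≤ 288 := by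
  classical
  set τ := ρ t with hτ
  have htt : ∀ x, τ (τ x) = x := fun x => by
    rw [hτ, ← Equiv.Perm.mul_apply, ← map_mul, ← pow_two, ← ht, pow_orderOf_eq_one, map_one, Equiv.Perm.one_apply]
  have hne : ∀ x, τ x ≠ x := fun x h => by
    have : x ∈ fixSet ρ t := mem_fixSet.mpr h
    rw [hfree] at this
    exact absurd this (Finset.notMem_empty x)
  let Y := {b : Finset X // ∃ x, b = {x, τ x}}
  let mk : X → Y := fun x => ⟨{x, τ x}, x, rfl⟩
  have hmk : ∀ x y, mk x = mk y ↔ y = x ∨ y = τ x := by
    intro x y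
    constructor
    · intro h
      have : y ∈ ({x, τ x} : Finset X) := by
        rw [show ({x, τ x} : Finset X) = {y, τ y} from congrArg Subtype.val h]
        simp
      simpa using this
    · rintro (rfl | rfl)
      · rfl
      · exact Subtype.ext (show ({x, τ x} : Finset X) = {τ x, τ (τ x)} by rw [htt, Finset.pair_comm])
  have hsurj : ∀ b : Y, ∃ x, mk x = b := fun b => by
    obtain ⟨x, hx⟩ := b.2; exact ⟨x, Subtype.ext hx.symm⟩
  have hY : Fintype.card Y = 6 := by
    have h := Finset.card_eq_sum_card_fiberwise (f := mk) (s := (Finset.univ : Finset X))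
      (t := (Finset.univ : Finset Y)) (fun x _ => Finset.mem_univ _)
    rw [Finset.card_univ, hX, Finset.sum_congr rfl (g := fun _ => 2) fun b _ => by
      obtain ⟨x, rfl⟩ := hsurj b
      rw [show (Finset.univ.filter fun y => mk y = mk x) = {x, τ x} by
        ext y
        rw [Finset.mem_filter, Finset.mem_insert, Finset.mem_singleton]
        exact ⟨fun h => (hmk x y).mp h.2.symm, fun h => ⟨Finset.mem_univ _, ((hmk x y).mpr h).symm⟩⟩]
      exact Finset.card_pair (hne x).symm] at h
    simp only [Finset.sum_const, Finset.card_univ, smul_eq_mul] at h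
    omega
  set C := centralizer ({t} : Set G) with hC
  have hcomm : ∀ (c : C) x, ρ c (τ x) = τ (ρ c x) := fun c x => by
    rw [hτ, ← Equiv.Perm.mul_apply, ← map_mul, mem_centralizer_singleton_iff.mp c.2, map_mul,
      Equiv.Perm.mul_apply]
  have himg : ∀ (c : C) x, ({x, τ x} : Finset X).image (ρ c) = {ρ c x, τ (ρ c x)} := fun c x => by
    rw [Finset.image_insert, Finset.image_singleton, hcomm]
  have hcl : ∀ (c : C) (b : Y), ∃ x, b.1.image (ρ c) = {x, τ x} := fun c b => by
    obtain ⟨x, hx⟩ := b.2
    exact ⟨ρ c x, by rw [hx, himg]⟩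
  let φ : C →* Equiv.Perm Y :=
    { toFun := fun c =>
        { toFun := fun b => ⟨b.1.image (ρ c), hcl c b⟩
          invFun := fun b => ⟨b.1.image (ρ (c⁻¹ : C)), hcl c⁻¹ b⟩
          left_inv := fun b => Subtype.ext (by
            simp only [Finset.image_image, Subgroup.coe_inv, map_inv]
            rw [show (⇑(ρ (c : G))⁻¹ ∘ ⇑(ρ (c : G))) = id from funext fun z => by simp, Finset.image_id])
          right_inv := fun b => Subtype.ext (by
            simp only [Finset.image_image, Subgroup.coe_inv, map_inv]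
            rw [show (⇑(ρ (c : G)) ∘ ⇑(ρ (c : G))⁻¹) = id from funext fun z => by simp, Finset.image_id]) }
      map_one' := Equiv.ext fun b => Subtype.ext (by simp)
      map_mul' := fun c d => Equiv.ext fun b => Subtype.ext (by simp [Finset.image_image, Function.comp_def]) }
  have hφ : ∀ (c : C) x, φ c (mk x) = mk (ρ c x) := fun c x => Subtype.ext (himg c x)
  have hker : Nat.card φ.ker ≤ 2 := by
    let f : φ.ker → Bool := fun g => decide ((g : C) = 1)
    refine (Nat.card_le_card_of_injective f ?_).trans (le_of_eq (by rw [Nat.card_eq_fintype_card]; rfl))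
    have key : ∀ g : φ.ker, (g : C) ≠ 1 → ((g : C) : G) = t := by
      intro g hg
      by_contra hgt
      have hg1 : ((g : C) : G) ≠ 1 := fun e => hg (Subtype.ext e)
      have hgt1 : t * ((g : C) : G) ≠ 1 := fun e => hgt (by
        rw [eq_inv_of_mul_eq_one_right e]
        exact inv_eq_of_mul_eq_one_right (by rw [← pow_two, ← ht, pow_orderOf_eq_one]))
      have hall : ∀ x, x ∈ fixSet ρ ((g : C) : G) ∪ fixSet ρ (t * ((g : C) : G)) := fun x => by
        have h := hφ (g : C) x
        rw [MonoidHom.mem_ker.mp g.2, Equiv.Perm.one_apply, hmk] at h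
        rw [Finset.mem_union, mem_fixSet, mem_fixSet, map_mul, Equiv.Perm.mul_apply]
        rcases h with h | h
        · exact Or.inl h
        · exact Or.inr (by rw [h, ← hτ, htt])
      have h1 := Finset.card_le_card (fun x (_ : x ∈ (Finset.univ : Finset X)) => hall x)
      have h2 := Finset.card_union_le (fixSet ρ ((g : C) : G)) (fixSet ρ (t * ((g : C) : G)))
      have h3 := fixSet_le h5 hg1
      have h4 := fixSet_le h5 hgt1
      rw [Finset.card_univ, hX] at h1
      omega
    intro g k e
    simp only [f, decide_eq_decide] at e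
    by_cases hg : (g : C) = 1
    · exact Subtype.ext (hg.trans (e.mp hg).symm)
    · exact Subtype.ext (Subtype.ext ((key g hg).trans (key k (fun h => hg (e.mpr h))).symm))
  obtain ⟨e⟩ := (Fintype.card_eq.mp (show Fintype.card (Fin 6) = Fintype.card Y by rw [hY, Fintype.card_fin]))
  have hidx : 5 ≤ φ.range.index := by
    refine index_of_no_three e φ.range fun h hh h3 hfix => ?_
    obtain ⟨c, rfl⟩ := hh
    choose x hx using fun i : Fin 6 => hsurj (e i)
    have hc2 : ρ ((c : G) * c) = 1 := by
      by_contra hne1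
      have hcc : (c : G) * c ≠ 1 := fun e1 => hne1 (by rw [e1, map_one])
      have hsub : ((Finset.univ.filter fun i : Fin 6 => 3 ≤ i).image x) ∪
          ((Finset.univ.filter fun i : Fin 6 => 3 ≤ i).image fun i => τ (x i)) ⊆ fixSet ρ ((c : G) * c) := by
        have key : ∀ i : Fin 6, 3 ≤ i → ∀ z, z = x i ∨ z = τ (x i) → ρ c (ρ c z) = z := by
          intro i hi z hz
          have hz' : mk z = e i := ((hmk (x i) z).mpr hz).symm.trans (hx i)
          have h := hφ c z
          rw [hz', hfix i hi, ← hz'] at h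
          rcases (hmk _ _).mp h with h' | h'
          · rw [h', h']
          · rw [h', hcomm, h', htt]
        intro z hz
        rw [mem_fixSet, map_mul, Equiv.Perm.mul_apply]
        simp only [Finset.mem_union, Finset.mem_image, Finset.mem_filter, Finset.mem_univ, true_and] at hz
        rcases hz with ⟨i, hi, rfl⟩ | ⟨i, hi, rfl⟩
        · exact key i hi _ (Or.inl rfl)
        · exact key i hi _ (Or.inr rfl)
      have h6 : (((Finset.univ.filter fun i : Fin 6 => 3 ≤ i).image x) ∪
          ((Finset.univ.filter fun i : Fin 6 => 3 ≤ i).image fun i => τ (x i))).card = 6 := by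
        have hinj : Function.Injective x := fun i j hij => e.injective (by rw [← hx i, ← hx j, hij])
        have hinj' : Function.Injective fun i => τ (x i) := τ.injective.comp hinj
        rw [Finset.card_union_of_disjoint, Finset.card_image_of_injective _ hinj,
          Finset.card_image_of_injective _ hinj']
        · decide
        · rw [Finset.disjoint_left]
          intro z hz1 hz2
          simp only [Finset.mem_image, Finset.mem_filter, Finset.mem_univ, true_and] at hz1 hz2
          obtain ⟨i, -, rfl⟩ := hz1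
          obtain ⟨j, -, hj⟩ := hz2
          have : i = j := e.injective (by
            rw [← hx i, ← hx j]; exact ((hmk _ _).mpr (Or.inr hj.symm)).symm)
          subst this
          exact hne _ hj
      have := (h6 ▸ Finset.card_le_card hsub).trans (fixSet_le h5 hcc)
      omega
    have hcc1 : c * c = 1 := Subtype.ext (by
      refine rho_inj hX h5 ?_
      rw [Subgroup.coe_mul, hc2, Subgroup.coe_one, map_one])
    rw [← map_pow, pow_two, hcc1, map_one]
  have hperm : Nat.card (Equiv.Perm Y) = 720 := by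
    rw [Nat.card_perm, Nat.card_eq_fintype_card, hY]; rfl
  have h1 := φ.range.card_mul_index
  rw [hperm] at h1
  have h2 := φ.ker.card_mul_index
  rw [Subgroup.index_ker] at h2
  have hr : Nat.card φ.range ≤ 144 := by nlinarith
  rw [← h2]
  nlinarith

end

open scoped Pointwise

/-- The points of the dodecad. -/
abbrev DodPt : Type := {p : GolayPt // p ∈ Spor.squareDodecad}

theorem dod_mem {g : Equiv.Perm GolayPt} (hg : g ∈ Spor.M12) {p : GolayPt} (hp : p ∈ Spor.squareDodecad) :
    g p ∈ Spor.squareDodecad := by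
  have h : g • Spor.squareDodecad = Spor.squareDodecad := hg.2
  rw [← h, Finset.mem_smul_finset]
  exact ⟨p, hp, rfl⟩

/-- The action of the Mathieu group on its dodecad. -/
noncomputable def sporAct : ↥Spor.M12 →* Equiv.Perm DodPt where
  toFun g :=
    { toFun := fun p => ⟨g.1 p.1, dod_mem g.2 p.2⟩
      invFun := fun p => ⟨(g⁻¹ : ↥Spor.M12).1 p.1, dod_mem (g⁻¹ : ↥Spor.M12).2 p.2⟩
      left_inv := fun p => Subtype.ext (by simp)
      right_inv := fun p => Subtype.ext (by simp) }
  map_one' := Equiv.ext fun p => Subtype.ext (by simp)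
  map_mul' g h := Equiv.ext fun p => Subtype.ext (by simp)

theorem square_dodecad : Spor.squareDodecad ∈ dodecads := by
  rw [Spor.squareDodecad, CfsgGolay.squares_eq]
  exact CfsgGolay.square_mem_dodecads

theorem card_dodPt : Fintype.card DodPt = 12 := by
  rw [Fintype.card_coe, Spor.squareDodecad, CfsgGolay.squares_eq, CfsgGolay.card_toSet]
  decide +kernel

theorem sporAct_five : FiveTrivial sporAct := by
  intro g s hs hfix
  obtain ⟨e⟩ := Function.Embedding.nonempty_of_card_le (α := Fin 5) (β := s)
    (by rw [Fintype.card_fin, Fintype.card_coe]; exact hs)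
  let x : Fin 5 ↪ GolayPt := ⟨fun i => (e i).1.1, fun i j h => e.injective (Subtype.ext (Subtype.ext h))⟩
  have hx : ∀ i, x i ∈ Spor.squareDodecad := fun i => (e i).1.2
  obtain ⟨w, -, huniq⟩ := CfsgGolay.dod_sharply_five square_dodecad x x hx hx
  let g' : MulAction.stabilizer M24 Spor.squareDodecad := ⟨⟨g.1, g.2.1⟩, g.2.2⟩
  have h1 : g' = w := huniq g' fun i => congrArg Subtype.val (hfix _ (e i).2)
  have h2 : (1 : MulAction.stabilizer M24 Spor.squareDodecad) = w := huniq 1 fun i => rfl
  have h3 : g' = 1 := h1.trans h2.symm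
  exact Subtype.ext (congrArg (fun k : MulAction.stabilizer M24 Spor.squareDodecad => (k.1 : Equiv.Perm GolayPt)) h3)

end CfsgM12Det
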