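/-
Recognising the Mathieu group of degree twelve from its order and local counts.
-/
import Cfsg.Agent.Lib.SimpleM12.Recognition
import Cfsg.Agent.Lib.M11Det.Basic

set_option autoImplicit false
set_option linter.style.haveILetI false
set_option linter.unusedSectionVars false

namespace CfsgM12Det

open Cfsg Subgroup CfsgSimpleM11
open scoped Pointwise

theorem isM12_spor : IsM12 ↥Spor.M12 := ⟨CfsgGolay.isSimple_sporM12, CfsgGolay.card_sporM12⟩

variable {G : Type*} [Group G] [Finite G]

/-- A subgroup of order prime to eleven moved without fixed points by an element of order eleven. -/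
theorem card_mod_eleven {R : Subgroup G} {b : G} (hb : orderOf b = 11)
    (hn : b ∈ normalizer (R : Set G)) (hc : Nat.card (centralizer ({b} : Set G)) = 11)
    (h11 : ¬ 11 ∣ Nat.card R) : Nat.card R % 11 = 1 := by
  classical
  haveI : Fact (Nat.Prime 11) := ⟨by norm_num⟩
  have hz : ∀ z : zpowers b, (z : G) ∈ normalizer (R : Set G) := fun z => zpowers_le.mpr hn z.2
  letI : MulAction (zpowers b) R :=
    { smul := fun z r => ⟨MulAut.conj (z : G) r, (mem_normalizer_iff.mp (hz z) _).mp r.2⟩
      one_smul := fun r => Subtype.ext (by show MulAut.conj (1 : G) r = r; simp)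
      mul_smul := fun s t r => Subtype.ext (by
        show MulAut.conj ((s : G) * t) r = MulAut.conj (s : G) (MulAut.conj (t : G) r); simp [map_mul]) }
  have hP : IsPGroup 11 (zpowers b) := IsPGroup.of_card (n := 1) (by rw [Nat.card_zpowers, hb, pow_one])
  have hcz : centralizer ({b} : Set G) = zpowers b :=
    (eq_of_le_of_card_ge (zpowers_le.mpr (mem_cent.mpr rfl)) (by rw [hc, Nat.card_zpowers, hb])).symm
  have h1 : Nat.card (MulAction.fixedPoints (zpowers b) R) = 1 := by
    refine Nat.card_eq_one_iff_exists.mpr ⟨⟨1, fun z => Subtype.ext (by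
      show MulAut.conj (z : G) ((1 : R) : G) = _; simp)⟩, fun r => Subtype.ext (Subtype.ext ?_)⟩
    have h := congrArg Subtype.val (r.2 ⟨b, mem_zpowers b⟩)
    have hm : (r.1 : G) ∈ zpowers b := hcz.le (mem_cent.mpr (mul_inv_eq_iff_eq_mul.mp h).symm)
    have hd : orderOf (r.1 : G) ∣ 11 := by
      exact (Subgroup.orderOf_dvd_natCard _ hm).trans (by rw [Nat.card_zpowers, hb])
    rcases (Nat.dvd_prime (by norm_num : Nat.Prime 11)).mp hd with e | e
    · exact orderOf_eq_one_iff.mp e
    · exact absurd (e ▸ Subgroup.orderOf_dvd_natCard _ r.1.2) h11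
  have := hP.card_modEq_card_fixedPoints R
  rw [h1] at this
  exact this

/-- No nontrivial subgroup of order dividing 1728 is moved without fixed points. -/
theorem trivial_of_fpf (hcent : ∀ b : G, orderOf b = 11 → Nat.card (centralizer ({b} : Set G)) = 11)
    {K : Subgroup G} {a : G} (ha : orderOf a = 11) (hn : a ∈ normalizer (K : Set G))
    (hK : Nat.card K ∣ 1728) : Nat.card K = 1 := by
  classical
  haveI : Fact (Nat.Prime 2) := ⟨Nat.prime_two⟩
  haveI : Fact (Nat.Prime 11) := ⟨by norm_num⟩
  let J : Subgroup G := normalizer (K : Set G)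
  let K' : Subgroup J := K.subgroupOf J
  have hK' : Nat.card K' = Nat.card K :=
    Nat.card_congr (subgroupOfEquivOfLe (le_normalizer (H := K))).toEquiv
  haveI : K'.Normal := normal_in_normalizer
  obtain ⟨R⟩ : Nonempty (Sylow 2 K') := inferInstance
  let R' : Subgroup J := (R : Subgroup K').map K'.subtype
  have hfr : normalizer (R' : Set J) ⊔ K' = ⊤ := R.normalizer_sup_eq_top
  have h11 : 11 ∣ Nat.card (normalizer (R' : Set J)) := by
    have h1 : 11 ∣ Nat.card J := ha ▸ Subgroup.orderOf_dvd_natCard _ hn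
    have h2 : Nat.card J ∣ Nat.card (normalizer (R' : Set J)) * Nat.card K' := by
      have h3 : K'.index ∣ Nat.card (normalizer (R' : Set J)) := by
        rw [← relIndex_top_right, ← hfr, relIndex_sup_right]
        exact relIndex_dvd_card _ _
      rw [← K'.card_mul_index, mul_comm (Nat.card K')]
      exact Nat.mul_dvd_mul_right h3 _
    refine ((Nat.Prime.dvd_mul (by norm_num)).mp (h1.trans h2)).resolve_right fun h => ?_
    rw [hK'] at h
    have := h.trans hK
    norm_num at this
  obtain ⟨b, hbo⟩ := exists_prime_orderOf_dvd_card' 11 h11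
  let RG : Subgroup G := R'.map J.subtype
  have hRG : Nat.card RG = Nat.card R := by
    rw [card_map_of_injective J.subtype_injective, card_map_of_injective K'.subtype_injective]
  have hb : orderOf ((b : J) : G) = 11 := by rw [Subgroup.orderOf_coe, Subgroup.orderOf_coe, hbo]
  have hbn : ((b : J) : G) ∈ normalizer (RG : Set G) :=
    Subgroup.le_normalizer_map J.subtype ⟨b.1, b.2, rfl⟩
  have hRd : Nat.card R ∣ 1728 := (Subgroup.card_subgroup_dvd_card (R : Subgroup K')).trans (hK' ▸ hK)
  have hmod := card_mod_eleven hb hbn (hcent _ hb) (by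
    rw [hRG]; exact fun h => by have := h.trans hRd; norm_num at this)
  obtain ⟨i, hi⟩ := R.2.exists_card_eq
  rw [hRG, hi] at hmod
  have hi6 : i ≤ 6 := by
    rw [hi] at hRd
    by_contra hcon
    have := (pow_dvd_pow 2 (show 7 ≤ i by omega)).trans hRd
    norm_num at this
  have hi0 : i = 0 :=
    (show ∀ i < 7, 2 ^ i % 11 = 1 → i = 0 by decide) i (by omega) hmod
  have h2 : ¬ 2 ∣ Nat.card K := by
    intro h
    have := R.card_eq_multiplicity
    rw [hi, hi0, hK', pow_zero] at this
    have hp : 1 ≤ (Nat.card K).factorization 2 :=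
      (Nat.prime_two.pow_dvd_iff_le_factorization Nat.card_pos.ne').mp (by rwa [pow_one])
    have h3 := Nat.pow_le_pow_right (n := 2) (by norm_num) hp
    rw [pow_one] at h3
    omega
  have h27 : Nat.card K ∣ 27 := by
    have hc : Nat.Coprime (Nat.card K) 64 := by
      rw [show (64 : ℕ) = 2 ^ 6 by norm_num]
      exact Nat.Coprime.pow_right 6 ((Nat.prime_two.coprime_iff_not_dvd.mpr h2).symm)
    exact hc.dvd_of_dvd_mul_left (show Nat.card K ∣ 64 * 27 by norm_num; exact hK)
  have h := card_mod_eleven ha hn (hcent _ ha) fun h => by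
    have := h.trans h27; norm_num at this
  have key : ∀ k ∈ Nat.divisors 27, k % 11 = 1 → k = 1 := by decide +kernel
  exact key _ (Nat.mem_divisors.mpr ⟨h27, by norm_num⟩) h

/-- A group of order 95040 with the local data at five and eleven is simple. -/
theorem simple_of_local (hcard : Nat.card G = 95040)
    (hN : ∀ b : G, orderOf b = 11 → Nat.card (normalizer ((zpowers b : Subgroup G) : Set G)) = 55)
    (hcent : ∀ b : G, orderOf b = 11 → Nat.card (centralizer ({b} : Set G)) = 11)
    (hfive : ∀ q : G, orderOf q = 5 → ¬ 11 ∣ Nat.card (normalizer ((zpowers q : Subgroup G) : Set G))) :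
    IsSimpleGroup G := by
  classical
  haveI : Fact (Nat.Prime 11) := ⟨by norm_num⟩
  haveI : Fact (Nat.Prime 5) := ⟨by norm_num⟩
  haveI : Nontrivial G := Finite.one_lt_card_iff_nontrivial.mp (by rw [hcard]; norm_num)
  obtain ⟨a, ha⟩ := exists_prime_orderOf_dvd_card' (G := G) 11 (by rw [hcard]; norm_num)
  refine { eq_bot_or_eq_top_of_normal := fun N hn => ?_ }
  have hd : Nat.card N ∣ 95040 := hcard ▸ Subgroup.card_subgroup_dvd_card N
  -- the Frattini argument at a Sylow subgroup of prime order of `N`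
  have fr : ∀ p : ℕ, p.Prime → ¬ p ^ 2 ∣ 95040 → p ∣ Nat.card N → ∃ b ∈ N, orderOf b = p ∧
      95040 ∣ Nat.card (normalizer ((zpowers b : Subgroup G) : Set G)) * Nat.card N := by
    intro p hp h2 hpN
    haveI : Fact p.Prime := ⟨hp⟩
    obtain ⟨b, hb⟩ := exists_prime_orderOf_dvd_card' p hpN
    obtain ⟨P, hP⟩ := (IsPGroup.of_card (n := 1)
      (show Nat.card (zpowers b) = p ^ 1 by rw [Nat.card_zpowers, hb, pow_one])).exists_le_sylow
    have hPb : zpowers b = (P : Subgroup N) := by
      refine eq_of_le_of_card_ge hP ?_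
      obtain ⟨i, hi⟩ := P.2.exists_card_eq
      have hi1 : i ≤ 1 := by
        by_contra hcon
        exact h2 ((pow_dvd_pow p (show 2 ≤ i by omega)).trans
          (hi ▸ (Subgroup.card_subgroup_dvd_card (P : Subgroup N)).trans hd))
      rw [hi, Nat.card_zpowers, hb]
      exact (Nat.pow_le_pow_right hp.pos hi1).trans_eq (pow_one p)
    have hfr := P.normalizer_sup_eq_top
    refine ⟨b.1, b.2, by rw [Subgroup.orderOf_coe, hb], ?_⟩
    have e : (P : Subgroup N).map N.subtype = zpowers (b : G) := by
      rw [← hPb, MonoidHom.map_zpowers]; rfl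
    have hfr' : normalizer ((zpowers (b : G) : Subgroup G) : Set G) ⊔ N = ⊤ := by rw [← e]; exact hfr
    have h3 : N.index ∣ Nat.card (normalizer ((zpowers (b : G) : Subgroup G) : Set G)) := by
      rw [← relIndex_top_right, ← hfr', relIndex_sup_right]
      exact relIndex_dvd_card _ _
    rw [← hcard, ← N.card_mul_index, mul_comm (Nat.card N)]
    exact Nat.mul_dvd_mul_right h3 _
  by_cases h11 : 11 ∣ Nat.card N
  · right
    obtain ⟨b, hbN, hb, hbd⟩ := fr 11 (by norm_num) (by norm_num) h11
    rw [hN b hb] at hbd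
    obtain ⟨t, ht⟩ : 1728 ∣ Nat.card N := by
      have h1 : Nat.Coprime 1728 55 := by norm_num
      exact h1.dvd_of_dvd_mul_left ((show (1728 : ℕ) ∣ 95040 by norm_num).trans hbd)
    have ht55 : t ∣ 55 := by
      rw [ht, show (95040 : ℕ) = 1728 * 55 by norm_num] at hd
      exact (Nat.mul_dvd_mul_iff_left (by norm_num)).mp hd
    have ht11 : 11 ∣ t := by
      rw [ht] at h11
      exact (show Nat.Coprime 11 1728 by norm_num).dvd_of_dvd_mul_left h11
    have key : ∀ t ∈ Nat.divisors 55, 11 ∣ t → 1728 * t = 19008 ∨ 1728 * t = 95040 := by decide +kernel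
    rcases key _ (Nat.mem_divisors.mpr ⟨ht55, by norm_num⟩) ht11 with h | h <;> rw [← ht] at h
    · exfalso
      let b' : N := ⟨b, hbN⟩
      have hb' : orderOf b' = 11 := by rw [← Subgroup.orderOf_coe]; exact hb
      obtain ⟨P, hP⟩ := (IsPGroup.of_card (n := 1)
        (show Nat.card (zpowers b') = 11 ^ 1 by rw [Nat.card_zpowers, hb', pow_one])).exists_le_sylow
      have hPc : Nat.card (P : Subgroup N) = 11 := by
        obtain ⟨i, hi⟩ := P.2.exists_card_eq
        have h1 := hi ▸ Subgroup.card_subgroup_dvd_card (P : Subgroup N)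
        rw [h] at h1
        have hi1 : i ≤ 1 := by
          by_contra hcon
          exact absurd ((pow_dvd_pow 11 (show 2 ≤ i by omega)).trans h1) (by norm_num)
        have h2 := card_dvd_of_le hP
        rw [Nat.card_zpowers, hb', hi] at h2
        interval_cases i <;> simp_all
      have hPz : zpowers b' = (P : Subgroup N) :=
        eq_of_le_of_card_ge hP (by rw [hPc, Nat.card_zpowers, hb'])
      have hnc : normalizer ((P : Subgroup N) : Set N) ≤ centralizer ((P : Subgroup N) : Set N) := by
        rw [← hPz]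
        have hle : (normalizer ((zpowers b' : Subgroup N) : Set N)).map N.subtype ≤
            normalizer ((zpowers b : Subgroup G) : Set G) := by
          refine (Subgroup.le_normalizer_map N.subtype).trans_eq ?_
          rw [MonoidHom.map_zpowers]; rfl
        have h1 := card_dvd_of_le hle
        rw [card_map_of_injective N.subtype_injective, hN b hb] at h1
        have h2 := Subgroup.card_subgroup_dvd_card (normalizer ((zpowers b' : Subgroup N) : Set N))
        rw [h] at h2
        have hg := Nat.dvd_gcd h1 h2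
        norm_num at hg
        have e : zpowers b' = normalizer ((zpowers b' : Subgroup N) : Set N) :=
          eq_of_le_of_card_ge le_normalizer (by rw [Nat.card_zpowers, hb']; exact Nat.le_of_dvd (by norm_num) hg)
        rw [← e]
        exact Subgroup.le_centralizer (zpowers b')
      have hcomp := MonoidHom.ker_transferSylow_isComplement' P hnc
      set K := (MonoidHom.transferSylow P hnc).ker with hKdef
      have hKc : Nat.card K = 1728 := by
        have := hcomp.card_mul
        rw [hPc, h] at this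
        omega
      have hKn : b ∈ normalizer ((K.map N.subtype : Subgroup G) : Set G) :=
        Subgroup.le_normalizer_map N.subtype ⟨b', by rw [normalizer_eq_top K]; exact mem_top _, rfl⟩
      have := trivial_of_fpf hcent hb hKn (by rw [card_map_of_injective N.subtype_injective, hKc])
      rw [card_map_of_injective N.subtype_injective, hKc] at this
      norm_num at this
    · exact eq_top_of_card_eq _ (h.trans hcard.symm)
  · left
    have h5 : ¬ 5 ∣ Nat.card N := by
      intro h5
      obtain ⟨q, -, hq, hqd⟩ := fr 5 (by norm_num) (by norm_num) h5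
      refine ((Nat.Prime.dvd_mul (by norm_num)).mp ((show (11 : ℕ) ∣ 95040 by norm_num).trans hqd)).elim ?_ h11
      exact hfive q hq
    have h1728 : Nat.card N ∣ 1728 := by
      have hc : Nat.Coprime (Nat.card N) 55 := by
        rw [show (55 : ℕ) = 5 * 11 by norm_num]
        exact Nat.Coprime.mul_right (((show Nat.Prime 5 by norm_num).coprime_iff_not_dvd.mpr h5).symm)
          (((show Nat.Prime 11 by norm_num).coprime_iff_not_dvd.mpr h11).symm)
      exact hc.dvd_of_dvd_mul_left (show Nat.card N ∣ 55 * 1728 by norm_num; exact hd)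
    exact eq_bot_of_card_eq _ (trivial_of_fpf hcent ha (by rw [normalizer_eq_top N]; exact mem_top _) h1728)

/-- The element counts of the Mathieu group are one, large, or multiples of eleven. -/
theorem count_shape {c : ℕ} (hc : 0 < c) {n : ℕ} (h : c = Nat.card {g : ↥Spor.M12 // orderOf g = n}) :
    c = 1 ∨ 8640 ≤ c ∨ 11 ∣ c := by
  classical
  haveI := Fintype.ofFinite ↥Spor.M12
  have hM := isM12_spor
  obtain ⟨⟨g, hg⟩⟩ : Nonempty {g : ↥Spor.M12 // orderOf g = n} := (Nat.card_pos_iff.mp (h ▸ hc)).1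
  rcases eq_or_ne n 1 with rfl | h1
  · left
    rw [h]
    refine Nat.card_eq_one_iff_exists.mpr ⟨⟨1, orderOf_one⟩, fun x => Subtype.ext ?_⟩
    exact orderOf_eq_one_iff.mp x.2
  rcases eq_or_ne n 11 with rfl | h11
  · right; left
    have h1 := (centralizer ({g} : Set ↥Spor.M12)).card_mul_index
    have h2 := CfsgM11Det.index_le_count hg
    rw [← h] at h2
    rw [CfsgSimpleM12.cent11 hM hg, CfsgSimpleM12.card_eq hM] at h1
    omega
  refine Or.inr (Or.inr ?_)
  haveI : Fact (Nat.Prime 11) := ⟨by norm_num⟩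
  obtain ⟨a, ha⟩ := exists_prime_orderOf_dvd_card' (G := ↥Spor.M12) 11
    (by rw [CfsgSimpleM12.card_eq hM]; norm_num)
  rw [h]
  exact CfsgM11Det.dvd_count ha n fun x hx => CfsgSimpleM12.not_eleven_dvd_cent hM (hx ▸ h1) (hx ▸ h11)

theorem five_aux : ∀ k ∈ Nat.divisors 1728, k % 5 = 1 →
    4 * k = 1 ∨ 8640 ≤ 4 * k ∨ 11 ∣ 4 * k → 11 ∣ k := by decide +kernel

theorem five_count {k : ℕ} (hd : k ∣ 19008) (h5 : k % 5 = 1)
    (h : 4 * k = 1 ∨ 8640 ≤ 4 * k ∨ 11 ∣ 4 * k) : 11 ∣ k := by
  by_contra h11
  have hc : Nat.Coprime k 11 := ((show Nat.Prime 11 by norm_num).coprime_iff_not_dvd.mpr h11).symm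
  exact h11 (five_aux k (Nat.mem_divisors.mpr
    ⟨hc.dvd_of_dvd_mul_left (show k ∣ 11 * 1728 by norm_num; exact hd), by norm_num⟩) h5 h)

theorem eleven_aux : ∀ k ∈ Nat.divisors 1728,
    (k % 11 = 1 → 10 * k = 1 ∨ 8640 ≤ 10 * k ∨ 11 ∣ 10 * k → k = 1728) ∧
      (5 * k % 11 = 1 → 10 * (5 * k) = 1 ∨ 8640 ≤ 10 * (5 * k) ∨ 11 ∣ 10 * (5 * k) → 5 * k = 1728) := by
  decide +kernel

theorem eleven_count {k : ℕ} (hd : k ∣ 8640) (h11 : k % 11 = 1)
    (h : 10 * k = 1 ∨ 8640 ≤ 10 * k ∨ 11 ∣ 10 * k) : k = 1728 := by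
  by_cases h5 : 5 ∣ k
  · obtain ⟨j, rfl⟩ := h5
    rw [show (8640 : ℕ) = 5 * 1728 by norm_num] at hd
    exact (eleven_aux j (Nat.mem_divisors.mpr
      ⟨(Nat.mul_dvd_mul_iff_left (by norm_num)).mp hd, by norm_num⟩)).2 h11 h
  · have hc : Nat.Coprime k 5 := ((show Nat.Prime 5 by norm_num).coprime_iff_not_dvd.mpr h5).symm
    exact (eleven_aux k (Nat.mem_divisors.mpr
      ⟨hc.dvd_of_dvd_mul_left (show k ∣ 5 * 1728 by norm_num; exact hd), by norm_num⟩)).1 h11 h

/-- Order and element counts determine the Mathieu group of degree twelve. -/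
theorem iso_of_counts (hcard : Nat.card G = Nat.card ↥Spor.M12)
    (hnse : {c : ℕ | 0 < c ∧ ∃ n : ℕ, c = Nat.card {g : G // orderOf g = n}} =
      {c : ℕ | 0 < c ∧ ∃ n : ℕ, c = Nat.card {g : ↥Spor.M12 // orderOf g = n}}) :
    Nonempty (G ≃* ↥Spor.M12) := by
  classical
  rw [CfsgGolay.card_sporM12] at hcard
  haveI : Fact (Nat.Prime 11) := ⟨by norm_num⟩
  haveI : Fact (Nat.Prime 5) := ⟨by norm_num⟩
  have shape : ∀ n : ℕ, 0 < Nat.card {g : G // orderOf g = n} →
      Nat.card {g : G // orderOf g = n} = 1 ∨ 8640 ≤ Nat.card {g : G // orderOf g = n} ∨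
        11 ∣ Nat.card {g : G // orderOf g = n} := by
    intro n hn
    obtain ⟨-, m, hm⟩ := (Set.ext_iff.mp hnse _).mp ⟨hn, n, rfl⟩
    exact count_shape hn hm
  have hP : ∀ p : ℕ, p.Prime → p ∣ 95040 → ¬ p ^ 2 ∣ 95040 → ∀ P : Sylow p G,
      Nat.card (P : Subgroup G) = p := fun p hp h1 h2 P => by
    haveI : Fact p.Prime := ⟨hp⟩
    rw [P.card_eq_multiplicity, hcard,
      CfsgLib.Order7920.fac_eq hp (by norm_num) (show p ^ 1 ∣ 95040 by rwa [pow_one]) h2, pow_one]
  have hP11 := hP 11 (by norm_num) (by norm_num) (by norm_num)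
  have hP5 := hP 5 (by norm_num) (by norm_num) (by norm_num)
  have hidx : ∀ p : ℕ, [Fact p.Prime] → ∀ P : Sylow p G, Nat.card (P : Subgroup G) = p →
      Nat.card (Sylow p G) ∣ 95040 / p := by
    intro p hp P hc
    have h2 := (P : Subgroup G).card_mul_index
    rw [hc, hcard] at h2
    rw [← h2, Nat.mul_div_cancel_left _ hp.out.pos]
    exact P.card_dvd_index
  have hn11 : Nat.card (Sylow 11 G) = 1728 := by
    have h := shape 11 (by rw [CfsgM11Det.count_prime hP11]; exact Nat.mul_pos Nat.card_pos (by norm_num))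
    rw [CfsgM11Det.count_prime hP11, mul_comm] at h
    exact eleven_count (hidx 11 default (hP11 _))
      (card_sylow_modEq_one 11 G) h
  have hn5 : 11 ∣ Nat.card (Sylow 5 G) := by
    have h := shape 5 (by rw [CfsgM11Det.count_prime hP5]; exact Nat.mul_pos Nat.card_pos (by norm_num))
    rw [CfsgM11Det.count_prime hP5, mul_comm] at h
    exact five_count (hidx 5 default (hP5 _))
      (card_sylow_modEq_one 5 G) h
  have hnorm : ∀ p : ℕ, [Fact p.Prime] → (∀ P : Sylow p G, Nat.card (P : Subgroup G) = p) →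
      ∀ b : G, orderOf b = p →
      Nat.card (normalizer ((zpowers b : Subgroup G) : Set G)) * Nat.card (Sylow p G) = 95040 := by
    intro p _ hc b hb
    obtain ⟨Q, hQ⟩ := (IsPGroup.of_card (n := 1)
      (show Nat.card (zpowers b) = p ^ 1 by rw [Nat.card_zpowers, hb, pow_one])).exists_le_sylow
    have hQe : zpowers b = (Q : Subgroup G) :=
      eq_of_le_of_card_ge hQ (by rw [hc, Nat.card_zpowers, hb])
    rw [hQe]
    exact (congrArg _ Q.card_eq_index_normalizer).trans ((card_mul_index _).trans hcard)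
  have hfive : ∀ q : G, orderOf q = 5 →
      ¬ 11 ∣ Nat.card (normalizer ((zpowers q : Subgroup G) : Set G)) := by
    intro q hq h
    have := Nat.mul_dvd_mul h hn5
    rw [hnorm 5 hP5 q hq] at this
    norm_num at this
  have hN : ∀ b : G, orderOf b = 11 →
      Nat.card (normalizer ((zpowers b : Subgroup G) : Set G)) = 55 := by
    intro b hb
    have := hnorm 11 hP11 b hb
    rw [hn11] at this
    omega
  have hcent : ∀ b : G, orderOf b = 11 → Nat.card (centralizer ({b} : Set G)) = 11 := by
    intro b hb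
    have hd := card_dvd_of_le (cent_le_norm b)
    rw [hN b hb] at hd
    have h11 : 11 ∣ Nat.card (centralizer ({b} : Set G)) :=
      hb ▸ Subgroup.orderOf_dvd_natCard _ (mem_cent.mpr rfl)
    have h5 : ¬ 5 ∣ Nat.card (centralizer ({b} : Set G)) := by
      intro h5
      obtain ⟨q, hq, hqo⟩ := CfsgLib.Order7920.exists_order (show Nat.Prime 5 by norm_num) h5
      refine hfive q hqo ?_
      rw [← hb]
      exact Subgroup.orderOf_dvd_natCard _ (cent_le_norm q (mem_cent.mpr (mem_cent.mp hq).symm))
    have hdiv : Nat.card (centralizer ({b} : Set G)) ∈ Nat.divisors 55 :=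
      Nat.mem_divisors.2 ⟨hd, by norm_num⟩
    revert hdiv h11 h5
    generalize Nat.card (centralizer ({b} : Set G)) = c
    intro h11 h5 hdiv
    have key : ∀ c ∈ Nat.divisors 55, 11 ∣ c → ¬ 5 ∣ c → c = 11 := by decide
    exact key c hdiv h11 h5
  haveI := simple_of_local hcard hN hcent hfive
  haveI := Fintype.ofFinite G
  exact CfsgSimpleM12.isoM12 ⟨inferInstance, hcard⟩

end CfsgM12Det
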