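/-
Degrees divisible by 55 and by 33.
-/
import Cfsg.Agent.Lib.M12Det.Twelve
import Cfsg.Agent.Lib.SimpleM12.Sixteen
import Cfsg.Agent.Lib.DegreeGraphSmall.Degrees

set_option autoImplicit false
set_option maxRecDepth 100000
set_option linter.style.haveILetI false
set_option linter.unusedSectionVars false

namespace CfsgM12Det

open Cfsg CfsgLib.CharTheory CfsgLib.Blocks CfsgSimpleM11 CfsgSimpleM12
open scoped ComplexConjugate

/-- The symmetric residue of `m` modulo five. -/
def res5 (m : ℕ) : ℤ := if m % 5 = 1 then 1 else if m % 5 = 4 then -1 else if m % 5 = 2 then 2 else if m % 5 = 3 then -2 else 0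

/-- The search over multisets of degrees with their values at an element of order five. -/
def srch (cands : List ℕ) (ok : ℕ → Bool) : ℕ → ℕ → ℤ → ℕ → Bool
  | 0, bv, tm, q => decide (bv = 0) && decide (tm = 0) && ok q
  | n + 1, bv, tm, q => (decide (bv = 0) && decide (tm = 0) && ok q) ||
      cands.any fun m => decide ((res5 m).natAbs * (res5 m).natAbs ≤ bv) && decide (q + m * m ≤ 450) &&
        srch cands ok n (bv - (res5 m).natAbs * (res5 m).natAbs) (tm - (m : ℤ) * res5 m) (q + m * m)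

theorem srch_complete {cands : List ℕ} {ok : ℕ → Bool} :
    ∀ (l : List ℕ) (n bv : ℕ) (tm : ℤ) (q : ℕ), (∀ m ∈ l, m ∈ cands) → l.length ≤ n →
      (l.map fun m => (res5 m).natAbs * (res5 m).natAbs).sum = bv → (l.map fun m : ℕ => (m : ℤ) * res5 m).sum = tm →
      q + (l.map fun m => m * m).sum ≤ 450 → ok (q + (l.map fun m => m * m).sum) = true →
      srch cands ok n bv tm q = true
  | [], n, bv, tm, q, _, _, hb, ht, _, ho => by
    simp only [List.map_nil, List.sum_nil, add_zero] at hb ht ho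
    subst hb; subst ht
    cases n <;> simp [srch, ho]
  | m :: l, 0, bv, tm, q, _, hn, _, _, _, _ => by simp at hn
  | m :: l, n + 1, bv, tm, q, hm, hn, hb, ht, hq, ho => by
    simp only [List.map_cons, List.sum_cons] at hb ht hq ho
    simp only [srch, Bool.or_eq_true, List.any_eq_true, Bool.and_eq_true, decide_eq_true_eq]
    refine Or.inr ⟨m, hm m (List.mem_cons_self ..), ⟨by omega, by omega⟩, ?_⟩
    refine srch_complete l n _ _ _ (fun k hk => hm k (List.mem_cons_of_mem _ hk)) (by simpa using hn)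
      (by omega) (by omega) (by omega) ?_
    rwa [add_assoc]

theorem srch_five : srch [1, 2, 3, 4, 6, 8, 9, 12, 16, 18] (fun q => decide (q = 450)) 5 5 15 0 = false := by
  decide +kernel

theorem srch_three : srch [1, 2, 4, 8, 16] (fun q => decide (q ≠ 275)) 5 5 15 0 = false := by
  decide +kernel

theorem rest_list : ∀ m ∈ List.range 22, 8640 % m = 0 →
    m ∈ ([1, 2, 3, 4, 5, 6, 8, 9, 10, 12, 15, 16, 18, 20] : List ℕ) := by decide +kernel

theorem five_row16_check :
    ((cand 45 288 false true).all fun a => (cand 144 288 false true).all fun b => (cand 120 288 false true).all fun e =>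
      (cand 16 288 false true).all fun f =>
      (fun c : ℤ => (95040 + 2112 * (a * a) + 660 * (b * b) - 1760 * (c * c) - 792 * (e * e) - 5940 * (f * f) != 0) ||
        !((cand 54 288 false true).contains c) || ([10, 20, 30, 40, 60, 80, 90, 120, 160, 180, 240, 270] : List ℕ).all
          (fun C => !(okVal 45 144 54 120 16 a b c e f C) ||
            ((C : ℤ) ≤ 240 && (1 + a * a + b * b + c * c + e * e + f * f + f * f == 110)))) (1 + a + b - e - f)) = true := by
  decide +kernel

theorem orders_ten : ∀ C ∈ Nat.divisors 1728, ∀ k ∈ ([10, 5] : List ℕ), k * C ≤ 288 → 10 ∣ k * C → 8640 % (k * C) = 0 →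
    k * C ∈ ([10, 20, 30, 40, 60, 80, 90, 120, 160, 180, 240, 270] : List ℕ) := by decide +kernel

theorem five_row16 {a b c e f : ℤ} {C : ℕ} (ha : a ∈ cand 45 288 false true) (hb : b ∈ cand 144 288 false true)
    (hc : c ∈ cand 54 288 false true) (he : e ∈ cand 120 288 false true) (hf : f ∈ cand 16 288 false true)
    (hlin : 1 + a + b - c - e - f = 0)
    (hq : 95040 + 2112 * (a * a) + 660 * (b * b) - 1760 * (c * c) - 792 * (e * e) - 5940 * (f * f) = 0)
    (hC : C ∣ 8640) (h10 : 10 ∣ C) (hC' : C ≤ 288) (hok : okVal 45 144 54 120 16 a b c e f C = true) :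
    C ≤ 240 ∧ 1 + a * a + b * b + c * c + e * e + f * f + f * f = 110 := by
  obtain ⟨j, rfl⟩ := h10
  have hj : j ∣ 864 := by
    rw [show (8640 : ℕ) = 10 * 864 by norm_num] at hC
    exact (Nat.mul_dvd_mul_iff_left (by norm_num)).mp hC
  have hmem := orders_ten j (Nat.mem_divisors.mpr ⟨hj.trans (by norm_num), by norm_num⟩) 10 (by simp) hC'
    (dvd_mul_right _ _) (Nat.mod_eq_zero_of_dvd hC)
  have h := five_row16_check
  replace h := List.all_eq_true.1 h _ ha
  replace h := List.all_eq_true.1 h _ hb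
  replace h := List.all_eq_true.1 h _ he
  replace h := List.all_eq_true.1 h _ hf
  rw [show (1 + a + b - e - f) = c by omega] at h
  simp only [hq, bne_self_eq_false, List.contains_iff_mem.2 hc, Bool.not_true, Bool.false_or] at h
  have h2 := List.all_eq_true.1 h _ hmem
  simp only [hok, Bool.not_true, Bool.false_or, Bool.and_eq_true, decide_eq_true_eq, beq_iff_eq] at h2
  exact ⟨by exact_mod_cast h2.1, h2.2⟩

theorem sq_lower {w : ℤ} {k : ℕ} (h : w ≤ -(k : ℤ) ∨ (k : ℤ) ≤ w) : ((k * k : ℕ) : ℤ) ≤ w ^ 2 := by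
  push_cast
  rcases h with h | h <;> nlinarith

universe u
variable {G : Type u} [Group G] [Fintype G]

theorem value_five (hG : IsM12 G) {u : G} (hu : orderOf u = 5)
    (hC : Nat.card (Subgroup.centralizer ({u} : Set G)) = 10)
    (hN : 40 ≤ Nat.card (Subgroup.normalizer ((Subgroup.zpowers u : Subgroup G) : Set G))) (χ : IrrCharacter G) :
    ∃ v : ℤ, (χ : G → ℂ) u = v ∧ (5 : ℤ) ∣ v - (dg χ : ℤ) := by
  classical
  have hconj : ∀ i : ℕ, ¬ 5 ∣ i → IsConj u (u ^ i) := by
    intro i hi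
    -- the normaliser induces four automorphisms
    have hco : ∀ g : Subgroup.normalizer ((Subgroup.zpowers u : Subgroup G) : Set G),
        ∃ k : Fin 5, k ≠ 0 ∧ (g : G) * u * (g : G)⁻¹ = u ^ (k : ℕ) := by
      intro g
      obtain ⟨k, hk, hk'⟩ := conj_pow_of_mem_norm g.2
      rw [hu] at hk
      refine ⟨⟨k, hk⟩, fun e => ?_, hk'⟩
      have e' : k = 0 := congrArg Fin.val e
      rw [e', pow_zero] at hk'
      have : u = 1 := by simpa using conj_eq_one_iff.mp hk'
      rw [this, orderOf_one] at hu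
      norm_num at hu
    choose f hf0 hf using hco
    by_contra hne
    set j : Fin 5 := ⟨i % 5, Nat.mod_lt _ (by norm_num)⟩ with hj
    have hmiss : ∀ g, f g ≠ j := fun g e => hne (by
      refine isConj_iff.mpr ⟨(g : G), (hf g).trans ?_⟩
      rw [e, hj]
      exact pow_eq_pow_iff_modEq.mpr (by rw [hu]; exact Nat.mod_modEq i 5))
    -- four automorphisms need the inverse of the centraliser bound
    have hmaps : ∀ g ∈ (Finset.univ : Finset (Subgroup.normalizer ((Subgroup.zpowers u : Subgroup G) : Set G))),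
        f g ∈ ((Finset.univ : Finset (Fin 5)).erase 0).erase j := fun g _ =>
      Finset.mem_erase.mpr ⟨hmiss g, Finset.mem_erase.mpr ⟨hf0 g, Finset.mem_univ _⟩⟩
    have hfib : ∀ k : Fin 5, (Finset.univ.filter fun g => f g = k).card ≤ 10 := by
      intro k
      rcases (Finset.univ.filter fun g => f g = k).eq_empty_or_nonempty with e | ⟨g0, hg0⟩
      · rw [e]; simp
      rw [← hC, Nat.card_eq_fintype_card, ← Fintype.card_coe]
      refine Fintype.card_le_of_injective (fun g => (⟨(g0 : G)⁻¹ * (g.1 : G), mem_cent.mpr ?_⟩ :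
        Subgroup.centralizer ({u} : Set G))) fun x y e => ?_
      · have h1 := hf g.1
        have h0 := hf g0
        rw [(Finset.mem_filter.mp g.2).2] at h1
        rw [(Finset.mem_filter.mp hg0).2] at h0
        calc (g0 : G)⁻¹ * (g.1 : G) * u = (g0 : G)⁻¹ * ((g.1 : G) * u * (g.1 : G)⁻¹) * g.1 := by group
          _ = (g0 : G)⁻¹ * ((g0 : G) * u * (g0 : G)⁻¹) * g.1 := by rw [h1, h0]
          _ = u * ((g0 : G)⁻¹ * g.1) := by group
      · exact Subtype.ext (Subtype.ext (mul_left_cancel (congrArg Subtype.val e)))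
    have hcount := Finset.card_le_mul_card_image_of_maps_to (f := f) hmaps 10 (fun k _ => hfib k)
    have hj0 : j ≠ 0 := fun e => hi (Nat.dvd_of_mod_eq_zero (congrArg Fin.val e))
    rw [Finset.card_univ, ← Nat.card_eq_fintype_card, Finset.card_erase_of_mem
      (Finset.mem_erase.mpr ⟨hj0, Finset.mem_univ _⟩), Finset.card_erase_of_mem (Finset.mem_univ _),
      Finset.card_univ, Fintype.card_fin] at hcount
    omega
  exact CfsgLib.DegreeGraphSmall.exists_int_value (show Nat.Prime 5 by norm_num) hu hconj (isCharacter_of_irr χ.2)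

theorem dg_inv (χ : IrrCharacter G) : dg (invIrr χ) = dg χ := by
  have h : ((invIrr χ : IrrCharacter G) : G → ℂ) 1 = (χ : G → ℂ) 1 := by rw [invIrr_apply, inv_one]
  rw [irr_degree, irr_degree] at h
  exact_mod_cast h

variable {a : G} (Sh : Shape16 a)

/-- The characters outside the shape. -/
noncomputable def restSet : Finset (IrrCharacter G) :=
  open Classical in Finset.univ.filter fun χ => χ ≠ triv G ∧ (∀ i, χ ≠ Sh.ch i) ∧ χ ≠ invIrr (Sh.ch 4)

theorem sum_all {M : Type*} [AddCommMonoid M] (F : IrrCharacter G → M) :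
    ∑ χ : IrrCharacter G, F χ = F (triv G) + (F (invIrr (Sh.ch 4)) + ∑ i, F (Sh.ch i)) + ∑ χ ∈ restSet Sh, F χ := by
  classical
  have hn1 : invIrr (Sh.ch 4) ∉ Finset.univ.image Sh.ch := fun hm => by
    obtain ⟨i, -, hi⟩ := Finset.mem_image.1 hm
    exact Sh.ne_inv i hi
  have ht : invIrr (Sh.ch 4) ≠ triv G := fun h' => by
    refine Sh.ne_triv 4 (Subtype.ext (funext fun x => ?_))
    have := congrArg (fun ψ : IrrCharacter G => (ψ : G → ℂ) x⁻¹) h'
    simpa [invIrr_apply, triv_apply] using this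
  have hn0 : triv G ∉ insert (invIrr (Sh.ch 4)) (Finset.univ.image Sh.ch) := fun hm => by
    rcases Finset.mem_insert.1 hm with h' | h'
    · exact ht h'.symm
    · obtain ⟨i, -, hi⟩ := Finset.mem_image.1 h'
      exact Sh.ne_triv i hi
  rw [← Finset.sum_add_sum_compl (insert (triv G) (insert (invIrr (Sh.ch 4)) (Finset.univ.image Sh.ch))),
    Finset.sum_insert hn0, Finset.sum_insert hn1, Finset.sum_image (fun x _ y _ hxy => Sh.inj hxy)]
  congr 1
  refine Finset.sum_congr ?_ fun _ _ => rfl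
  ext χ
  simp only [Finset.mem_compl, Finset.mem_insert, Finset.mem_image, Finset.mem_univ, true_and, restSet,
    Finset.mem_filter, not_or, not_exists]
  exact ⟨fun ⟨h1, h2, h3⟩ => ⟨h1, fun i e => h3 i e.symm, h2⟩, fun ⟨h1, h2, h3⟩ => ⟨h1, h3, fun i e => h2 i e.symm⟩⟩

theorem sum_sq_col {g : G} (z : IrrCharacter G → ℤ) (hz : ∀ χ : IrrCharacter G, (χ : G → ℂ) g = (z χ : ℂ)) :
    ∑ χ, z χ ^ 2 = (cc g : ℤ) := by
  classical
  have h := sum_irr_mul_conj g g
  rw [if_pos (IsConj.refl g)] at h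
  simp only [hz, map_intCast] at h
  have h' : ((∑ χ, z χ * z χ : ℤ) : ℂ) = ((cc g : ℤ) : ℂ) := by push_cast; exact h
  simp only [sq]
  exact_mod_cast h'

theorem sum_deg_col {g : G} (hg : g ≠ 1) (z : IrrCharacter G → ℤ) (hz : ∀ χ : IrrCharacter G, (χ : G → ℂ) g = (z χ : ℂ)) :
    ∑ χ, z χ * (dg χ : ℤ) = 0 := by
  classical
  have h := sum_irr_mul_conj g 1
  rw [if_neg (fun hc => hg (isConj_one_left.mp hc))] at h
  simp only [hz, irr_degree, map_natCast] at h
  have h' : ((∑ χ, z χ * (dg χ : ℤ) : ℤ) : ℂ) = ((0 : ℤ) : ℂ) := by push_cast; exact h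
  exact_mod_cast h'

theorem deg16 : dg (Sh.ch 0) = 45 ∧ dg (Sh.ch 1) = 144 ∧ dg (Sh.ch 2) = 54 ∧ dg (Sh.ch 3) = 120 ∧ dg (Sh.ch 4) = 16 := by
  have h : ∀ i, (dg (Sh.ch i) : ℤ) = |rows 16 i| := Sh.deg
  have h' : ∀ i : Fin 5, |rows 16 i| = ![45, 144, 54, 120, 16] i := by decide +kernel
  refine ⟨?_, ?_, ?_, ?_, ?_⟩
  · have := (h 0).trans (h' 0); simp at this; omega
  · have := (h 1).trans (h' 1); simp at this; omega
  · have := (h 2).trans (h' 2); simp at this; omega
  · have := (h 3).trans (h' 3); simp at this; omega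
  · have := (h 4).trans (h' 4); simp at this; omega

set_option maxHeartbeats 2000000 in
/-- The Mathieu group has degrees divisible by 55 and by 33. -/
theorem exists_degrees {X : Type*} [Fintype X] [DecidableEq X] {ρ : G →* Equiv.Perm X} (hG : IsM12 G)
    (hX : Fintype.card X = 12) (h5 : FiveTrivial ρ) :
    (∃ χ : IrrCharacter G, 55 ∣ dg χ) ∧ ∃ χ : IrrCharacter G, 33 ∣ dg χ := by
  classical
  haveI : Fact (Nat.Prime 11) := ⟨by norm_num⟩
  haveI : Fact (Nat.Prime 5) := ⟨by norm_num⟩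
  obtain ⟨a, ha⟩ := exists_prime_orderOf_dvd_card' (G := G) 11 (by rw [CfsgSimpleM12.card_eq hG]; norm_num)
  obtain ⟨Sh⟩ := exists_shape_sixteen hG ha
  obtain ⟨u, hu⟩ := exists_prime_orderOf_dvd_card' (G := G) 5 (by rw [CfsgSimpleM12.card_eq hG]; norm_num)
  have hu1 : u ≠ 1 := fun e => by rw [e, orderOf_one] at hu; norm_num at hu
  obtain ⟨hC, hN, t, ht, hut, hfree⟩ := five_data hG hX h5 hu
  obtain ⟨d0, d1, d2, d3, d4⟩ := deg16 Sh
  have d4' : dg (invIrr (Sh.ch 4)) = 16 := (dg_inv _).trans d4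
  set R := restSet Sh with hR
  have hRm : ∀ χ ∈ R, χ ≠ triv G ∧ 11 ∣ dg χ := fun χ hχ => by
    simp only [hR, restSet, Finset.mem_filter] at hχ
    exact ⟨hχ.2.1, (Sh.rest χ hχ.2.1 hχ.2.2.1 hχ.2.2.2).2.2⟩
  -- the degrees
  have hsqN : (∑ χ ∈ R, dg χ ^ 2) = 54450 := by
    have h := CfsgSimpleM12.sum_dg_sq hG
    rw [sum_all Sh, Fin.sum_univ_five, dg_triv, d0, d1, d2, d3, d4, d4'] at h
    rw [← hR] at h
    omega
  let m : IrrCharacter G → ℕ := fun χ => dg χ / 11
  have hm : ∀ χ ∈ R, dg χ = 11 * m χ := fun χ hχ => (Nat.mul_div_cancel' (hRm χ hχ).2).symm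
  have hQ : ∑ χ ∈ R, m χ * m χ = 450 := by
    rw [Finset.sum_congr rfl fun χ hχ => by rw [hm χ hχ, show (11 * m χ) ^ 2 = 121 * (m χ * m χ) by ring],
      ← Finset.mul_sum] at hsqN
    omega
  have hml : ∀ χ ∈ R, m χ ∈ ([1, 2, 3, 4, 5, 6, 8, 9, 10, 12, 15, 16, 18, 20] : List ℕ) := by
    intro χ hχ
    have h1 : m χ * m χ ≤ 450 := hQ ▸ Finset.single_le_sum (f := fun χ => m χ * m χ) (fun _ _ => Nat.zero_le _) hχ
    have h2 : m χ ∣ 8640 := by
      have h := CfsgSimpleM12.dg_dvd' hG χ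
      rw [hm χ hχ, show (95040 : ℕ) = 11 * 8640 by norm_num] at h
      exact (Nat.mul_dvd_mul_iff_left (by norm_num)).mp h
    exact rest_list _ (List.mem_range.mpr (by nlinarith)) (Nat.mod_eq_zero_of_dvd h2)
  -- the column of the element of order five
  choose v hv hvd using value_five hG hu hC hN
  have hvan : ∀ χ : IrrCharacter G, 5 ∣ dg χ → v χ = 0 := fun χ h => by
    have := (hv χ).symm.trans (vanish_full hG χ (p := 5) (k := 1) (by norm_num) (by norm_num) (by norm_num)
      (by simpa using h) (hu ▸ dvd_rfl))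
    exact_mod_cast this
  have hnorm := sum_sq_col v hv
  rw [show (cc u : ℤ) = 10 from by exact_mod_cast hC] at hnorm
  have hvle : ∀ χ, v χ ^ 2 ≤ 10 := fun χ => hnorm ▸ Finset.single_le_sum (fun χ _ => sq_nonneg (v χ)) (Finset.mem_univ χ)
  have hsmall : ∀ χ, -3 ≤ v χ ∧ v χ ≤ 3 := fun χ => by
    have := hvle χ
    exact ⟨by nlinarith, by nlinarith⟩
  have hv1 : v (triv G) = 1 := by
    have := (hv (triv G)).symm.trans (triv_apply u)
    exact_mod_cast this
  have e0 : v (Sh.ch 0) = 0 := hvan _ (by rw [d0]; norm_num)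
  have e3 : v (Sh.ch 3) = 0 := hvan _ (by rw [d3]; norm_num)
  have e1 : v (Sh.ch 1) = -1 := by have := hvd (Sh.ch 1); rw [d1] at this; have := hsmall (Sh.ch 1); omega
  have e2 : v (Sh.ch 2) = -1 := by have := hvd (Sh.ch 2); rw [d2] at this; have := hsmall (Sh.ch 2); omega
  have e4 : v (Sh.ch 4) = 1 := by have := hvd (Sh.ch 4); rw [d4] at this; have := hsmall (Sh.ch 4); omega
  have e4' : v (invIrr (Sh.ch 4)) = 1 := by
    have := hvd (invIrr (Sh.ch 4)); rw [d4'] at this; have := hsmall (invIrr (Sh.ch 4)); omega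
  have hV : ∑ χ ∈ R, v χ ^ 2 = 5 := by
    rw [sum_all Sh, Fin.sum_univ_five, hv1, e0, e1, e2, e3, e4, e4', ← hR] at hnorm
    linarith
  have hT : ∑ χ ∈ R, v χ * (dg χ : ℤ) = 165 := by
    have h := sum_deg_col hu1 v hv
    rw [sum_all Sh, Fin.sum_univ_five, hv1, e0, e1, e2, e3, e4, e4', dg_triv, d0, d1, d2, d3, d4, d4', ← hR] at h
    push_cast at h
    linarith
  have hres : ∀ χ ∈ R, v χ = res5 (m χ) := fun χ hχ => by
    have h1 := hvd χ
    rw [hm χ hχ] at h1
    have h2 : v χ ^ 2 ≤ 5 := hV ▸ Finset.single_le_sum (fun χ _ => sq_nonneg (v χ)) hχ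
    have h3 : -2 ≤ v χ ∧ v χ ≤ 2 := ⟨by nlinarith, by nlinarith⟩
    unfold res5
    push_cast at h1
    split_ifs <;> omega
  let R1 := R.filter fun χ => ¬ 5 ∣ m χ
  have hsub : R1 ⊆ R := Finset.filter_subset _ _
  have hz : ∀ χ ∈ R, χ ∉ R1 → v χ = 0 := fun χ hχ hn => by
    refine hvan χ ?_
    rw [hm χ hχ]
    by_contra h
    exact hn (Finset.mem_filter.mpr ⟨hχ, fun h' => h (dvd_mul_of_dvd_right h' 11)⟩)
  have hV1 : ∑ χ ∈ R1, v χ ^ 2 = 5 :=
    hV ▸ Finset.sum_subset hsub fun χ hχ hn => by rw [hz χ hχ hn]; norm_num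
  have hT1 : ∑ χ ∈ R1, (m χ : ℤ) * res5 (m χ) = 15 := by
    have h : ∑ χ ∈ R1, v χ * (dg χ : ℤ) = 165 :=
      hT ▸ Finset.sum_subset hsub fun χ hχ hn => by rw [hz χ hχ hn, zero_mul]
    rw [Finset.sum_congr rfl (g := fun χ => 11 * ((m χ : ℤ) * res5 (m χ))) fun χ hχ => by
      rw [hres χ (hsub hχ), hm χ (hsub hχ)]; push_cast; ring, ← Finset.mul_sum] at h
    linarith
  let l := R1.toList.map m
  have hlv : (l.map fun k => (res5 k).natAbs * (res5 k).natAbs).sum = 5 := by
    have : ((∑ χ ∈ R1, (res5 (m χ)).natAbs * (res5 (m χ)).natAbs : ℕ) : ℤ) = 5 := by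
      push_cast
      rw [← hV1]
      refine Finset.sum_congr rfl fun χ hχ => ?_
      rw [hres χ (hsub hχ), sq, ← abs_mul_abs_self (res5 (m χ))]
    simp only [l, List.map_map, Function.comp_def, Finset.sum_map_toList]
    exact_mod_cast this
  have hlt : (l.map fun k : ℕ => (k : ℤ) * res5 k).sum = 15 := by
    simp only [l, List.map_map, Function.comp_def, Finset.sum_map_toList]
    exact hT1
  have hlq : (l.map fun k => k * k).sum = ∑ χ ∈ R1, m χ * m χ := by
    simp only [l, List.map_map, Function.comp_def, Finset.sum_map_toList]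
  have hq450 : ∑ χ ∈ R1, m χ * m χ ≤ 450 := hQ ▸ Finset.sum_le_sum_of_subset hsub
  have hlen : l.length ≤ 5 := by
    have h : ∀ k ∈ l, 1 ≤ (res5 k).natAbs * (res5 k).natAbs := by
      intro k hk
      obtain ⟨χ, hχ, rfl⟩ := List.mem_map.mp hk
      have hne : res5 (m χ) ≠ 0 := by
        have := (Finset.mem_filter.mp (Finset.mem_toList.mp hχ)).2
        unfold res5; split_ifs <;> omega
      have := Int.natAbs_pos.mpr hne
      exact Nat.mul_pos this this
    have := List.card_nsmul_le_sum (l.map fun k => (res5 k).natAbs * (res5 k).natAbs) 1 (by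
      intro x hx; obtain ⟨k, hk, rfl⟩ := List.mem_map.mp hx; exact h k hk)
    rw [List.length_map, hlv, smul_eq_mul, mul_one] at this
    exact this
  refine ⟨?_, ?_⟩
  · by_contra hno
    push Not at hno
    have hno5 : ∀ χ ∈ R, ¬ 5 ∣ m χ := fun χ hχ h => hno χ (by
      rw [hm χ hχ]; exact (show 55 = 11 * 5 by norm_num) ▸ Nat.mul_dvd_mul_left 11 h)
    have hall : R1 = R := Finset.filter_eq_self.mpr hno5
    have h := srch_complete (cands := [1, 2, 3, 4, 6, 8, 9, 12, 16, 18]) (ok := fun q => decide (q = 450))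
      l 5 5 15 0 (fun k hk => by
        obtain ⟨χ, hχ, rfl⟩ := List.mem_map.mp hk
        obtain ⟨hχR, h5'⟩ := Finset.mem_filter.mp (Finset.mem_toList.mp hχ)
        have := hml χ hχR
        simp only [List.mem_cons, List.not_mem_nil, or_false] at this ⊢
        omega) hlen hlv hlt (by rw [hlq]; omega) (by simp only [hlq, hall, hQ, zero_add, decide_true])
    rw [srch_five] at h
    exact Bool.false_ne_true h
  · by_contra hno
    push Not at hno
    have hno3 : ∀ χ ∈ R, ¬ 3 ∣ m χ := fun χ hχ h => hno χ (by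
      rw [hm χ hχ]; exact (show 33 = 11 * 3 by norm_num) ▸ Nat.mul_dvd_mul_left 11 h)
    have h275 : ∑ χ ∈ R1, m χ * m χ = 275 := by
      by_contra hne
      have h := srch_complete (cands := [1, 2, 4, 8, 16]) (ok := fun q => decide (q ≠ 275)) l 5 5 15 0 (fun k hk => by
        obtain ⟨χ, hχ, rfl⟩ := List.mem_map.mp hk
        obtain ⟨hχR, h5'⟩ := Finset.mem_filter.mp (Finset.mem_toList.mp hχ)
        have := hml χ hχR
        have := hno3 χ hχR
        simp only [List.mem_cons, List.not_mem_nil, or_false] at *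
        omega) hlen hlv hlt (by rw [hlq]; omega) (by simp only [hlq, zero_add, decide_eq_true_eq]; exact hne)
      rw [srch_three] at h
      exact Bool.false_ne_true h
    let R0 := R.filter fun χ => 5 ∣ m χ
    have h175 : ∑ χ ∈ R0, m χ * m χ = 175 := by
      have h := Finset.sum_filter_add_sum_filter_not R (fun χ => 5 ∣ m χ) (fun χ => m χ * m χ)
      rw [hQ, show (∑ χ ∈ R.filter (fun χ => ¬ 5 ∣ m χ), m χ * m χ) = 275 from h275] at h
      exact Nat.add_right_cancel (h.trans (by norm_num : 450 = 175 + 275))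
    -- the column of the involution
    have ht1 : t ≠ 1 := fun e => by rw [e, orderOf_one] at ht; norm_num at ht
    choose w hw hw4 hwlo hwhi hwlt using fun χ => involution_int hG χ ht
    have h10 : 10 ∣ cc t := by
      refine Nat.Coprime.mul_dvd_of_dvd_of_dvd (show Nat.Coprime 2 5 by norm_num) (ht ▸ orderOf_dvd_cc t) ?_
      rw [← hu]
      exact Subgroup.orderOf_dvd_natCard _ (Subgroup.mem_centralizer_singleton_iff.mpr hut)
    have h288 : cc t ≤ 288 := cent_free_le hX h5 ht hfree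
    obtain ⟨x, V, hq, hCd, hC', hok, hc⟩ := Sh.invol_good hG ha (rows_ok 16) ht
    have hl := lin16 hG ha V
    have hc' := hc 288 false true h288 (by simp) (fun _ => (by norm_num : 5 ∣ 10).trans h10)
    rw [Fin.sum_univ_five] at hq
    have hq' : (95040 : ℤ) + (x 0 * x 0 * 2112 + x 1 * x 1 * 660 + x 2 * x 2 * -1760 + x 3 * x 3 * -792 +
      x 4 * x 4 * -5940) = 0 := hq
    obtain ⟨h240, h110⟩ := five_row16 (hc' 0) (hc' 1) (hc' 2) (hc' 3) (hc' 4) hl (by linarith)
      (Nat.dvd_of_mem_divisors hCd) h10 h288 hok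
    have hxw : ∀ i, w (Sh.ch i) = x i := fun i => by
      have := (hw (Sh.ch i)).symm.trans (V.val i); exact_mod_cast this
    have hxi : w (invIrr (Sh.ch 4)) = x 4 := by
      have := (hw _).symm.trans V.inv; exact_mod_cast this
    have hwt : w (triv G) = 1 := by
      have := (hw (triv G)).symm.trans (triv_apply t); exact_mod_cast this
    have hn := sum_sq_col w hw
    rw [sum_all Sh, Fin.sum_univ_five, hxw, hxw, hxw, hxw, hxw, hxi, hwt, ← hR] at hn
    have hle : ∑ χ ∈ R0, w χ ^ 2 ≤ ∑ χ ∈ R, w χ ^ 2 :=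
      Finset.sum_le_sum_of_subset_of_nonneg (Finset.filter_subset _ _) fun χ _ _ => sq_nonneg _
    have hlow : ∀ χ ∈ R0, ((m χ * m χ : ℕ) : ℤ) ≤ w χ ^ 2 := by
      intro χ hχ
      obtain ⟨hχR, h5m⟩ := Finset.mem_filter.mp hχ
      have h1 : m χ * m χ ≤ 175 := h175 ▸ Finset.single_le_sum (f := fun χ => m χ * m χ) (fun _ _ => Nat.zero_le _) hχ
      have hlist := hml χ hχR
      have h4 := hw4 χ
      have hw5 : (5 : ℤ) ∣ w χ := by
        have ho : 5 ∣ orderOf (u * t) := by
          rw [hut.orderOf_mul_eq_mul_orderOf_of_coprime (by rw [hu, ht]; norm_num), hu]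
          exact dvd_mul_right _ _
        have hv0 := vanish_full hG χ (p := 5) (k := 1) (by norm_num) (by norm_num) (by norm_num)
          (by rw [hm χ hχR]; exact dvd_mul_of_dvd_right (by simpa using h5m) 11) ho
        have htp : t ^ 5 = t := by
          conv_rhs => rw [← pow_one t]
          rw [pow_eq_pow_iff_modEq, ht]
          rfl
        have := modEq_mul χ (a := 0) (p := 5) (show u ^ 5 = 1 by rw [← hu]; exact pow_orderOf_eq_one u) hut
          ⟨w χ, by rw [htp, hw]⟩ (by rw [hv0, Int.cast_zero]) (hw χ)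
        exact Int.modEq_zero_iff_dvd.mp this.symm
      rw [hm χ hχR] at h4
      simp only [List.mem_cons, List.not_mem_nil, or_false] at hlist
      have hm510 : m χ = 5 ∨ m χ = 10 := by
        rcases hlist with e | e | e | e | e | e | e | e | e | e | e | e | e | e <;> rw [e] at h1 h5m ⊢ <;> omega
      rcases hm510 with e | e <;> rw [e] at h4 ⊢ <;> push_cast at h4
      · exact sq_lower (k := 5) (by omega)
      · exact sq_lower (k := 10) (by omega)
    have h175' : (175 : ℤ) ≤ ∑ χ ∈ R0, w χ ^ 2 := by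
      refine le_trans ?_ (Finset.sum_le_sum hlow)
      rw [← Nat.cast_sum, h175]
      norm_num
    have : (cc t : ℤ) ≤ 240 := by exact_mod_cast h240
    simp only [sq] at hn h175' hle
    linarith only [hn, h175', hle, this, h110]

theorem spor_degrees :
    (∃ d ∈ charDegrees ↥Spor.M12, 55 ∣ d) ∧ ∃ d ∈ charDegrees ↥Spor.M12, 33 ∣ d := by
  classical
  haveI := Fintype.ofFinite ↥Spor.M12
  obtain ⟨⟨χ, h1⟩, ψ, h2⟩ := exists_degrees (G := ↥Spor.M12)
    ⟨CfsgGolay.isSimple_sporM12, CfsgGolay.card_sporM12⟩ card_dodPt sporAct_five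
  exact ⟨⟨_, ⟨χ, rfl⟩, h1⟩, _, ⟨ψ, rfl⟩, h2⟩

end CfsgM12Det
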