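/-
There is no simple group of order 47520 with six elements in the centraliser of a Sylow subgroup.
-/
import Cfsg.Agent.Lib.SimpleM12.Basic

set_option autoImplicit false
set_option linter.style.haveILetI false
set_option linter.unusedSectionVars false

namespace CfsgM12Det.Half

open Cfsg Subgroup CfsgSimpleM11
open scoped Pointwise

/-- A simple group of order 47520. -/
def Is47520 (G : Type*) [Group G] : Prop := IsSimpleGroup G ∧ Nat.card G = 47520

universe u
variable {G : Type u} [Group G] [Finite G]

theorem card_eq (hG : Is47520 G) : Nat.card G = 47520 := hG.2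

theorem normal_cases (hG : Is47520 G) {N : Subgroup G} (hN : N.Normal) : N = ⊥ ∨ N = ⊤ :=
  haveI := hG.1
  hN.eq_bot_or_eq_top

theorem cent_ne_top (hG : Is47520 G) {x : G} (hx : x ≠ 1) : centralizer ({x} : Set G) ≠ ⊤ := fun h => by
  have hc : x ∈ center G := mem_center_iff.mpr fun g => mem_centralizer_singleton_iff.mp (h ▸ mem_top g)
  rcases normal_cases hG (inferInstance : (center G).Normal) with e | e
  · exact hx (mem_bot.mp (e ▸ hc))
  · haveI := hG.1
    letI : CommGroup G :=
      { (inferInstance : Group G) with mul_comm := fun a b => (mem_center_iff.mp (e ▸ mem_top b : b ∈ center G) a) }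
    have h7 : (Nat.card G).Prime := IsSimpleGroup.prime_card
    rw [card_eq hG] at h7
    norm_num at h7

theorem card_sylow11 (hG : Is47520 G) (P : Sylow 11 G) : Nat.card (P : Subgroup G) = 11 := by
  haveI : Fact (Nat.Prime 11) := ⟨by norm_num⟩
  rw [P.card_eq_multiplicity, card_eq hG, CfsgLib.Order7920.fac_eq (show Nat.Prime 11 by norm_num) (k := 1)
    (by norm_num) (by norm_num) (by norm_num), pow_one]

theorem card_sylow3 (hG : Is47520 G) (P : Sylow 3 G) : Nat.card (P : Subgroup G) = 27 := by
  haveI : Fact (Nat.Prime 3) := ⟨by norm_num⟩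
  rw [P.card_eq_multiplicity, card_eq hG, CfsgLib.Order7920.fac_eq (show Nat.Prime 3 by norm_num) (k := 3)
    (by norm_num) (by norm_num) (by norm_num)]
  norm_num

open CfsgSimpleM12 (sq_dvd_cent exists_order)

theorem faithful_sylow (hG : Is47520 G) (P : Sylow 11 G) {g : G} (hg : ∀ R : Sylow 11 G, g • R = R) : g = 1 := by
  rcases normal_cases hG (MonoidHom.normal_ker (MulAction.toPermHom G (Sylow 11 G))) with h | h
  · exact mem_bot.mp (h ▸ (MonoidHom.mem_ker.mpr (Equiv.ext hg)))
  · exfalso
    have hN : ((P : Subgroup G)).Normal := by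
      rw [← normalizer_eq_top_iff, eq_top_iff]
      intro x _
      refine Sylow.smul_eq_iff_mem_normalizer.mp ?_
      have hx : x ∈ (MulAction.toPermHom G (Sylow 11 G)).ker := h ▸ mem_top x
      exact Equiv.ext_iff.mp (MonoidHom.mem_ker.mp hx) P
    have hc := card_sylow11 hG P
    rcases normal_cases hG hN with e | e <;> rw [e] at hc
    · simp at hc
    · rw [card_top, card_eq hG] at hc; omega

theorem eq_one_of_fix (hG : Is47520 G) {R Q : Sylow 11 G} (hne : Q ≠ R) {z : G} (hz : z ∈ (R : Subgroup G))
    (h : z • Q = Q) : z = 1 := by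
  by_contra hz1
  apply hne
  have hzR : zpowers z = (R : Subgroup G) := by
    refine eq_of_le_of_card_ge (zpowers_le.mpr hz) (le_of_eq ?_)
    rw [card_sylow11 hG R, Nat.card_zpowers]
    rcases (Nat.dvd_prime (by norm_num)).mp ((card_sylow11 hG R) ▸ orderOf_dvd_natCard (R : Subgroup G) hz) with e | e
    · exact absurd (orderOf_eq_one_iff.mp e) hz1
    · exact e.symm
  have hN : (R : Subgroup G) ≤ normalizer ((Q : Subgroup G) : Set G) := by
    rw [← hzR, zpowers_le]
    exact Sylow.smul_eq_iff_mem_normalizer.mp h
  have : (R : Subgroup G) ⊓ normalizer ((Q : Subgroup G) : Set G) = (R : Subgroup G) ⊓ Q :=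
    R.isPGroup'.inf_normalizer_sylow Q
  rw [inf_eq_left.mpr hN] at this
  have hle : (R : Subgroup G) ≤ Q := this.le.trans inf_le_right
  exact Sylow.ext (eq_of_le_of_card_ge hle (le_of_eq (by rw [card_sylow11 hG, card_sylow11 hG]))).symm

theorem cent_le_of_twelve (hG : Is47520 G) (P : Sylow 11 G) (hn : Nat.card (Sylow 11 G) = 12) :
    centralizer ((P : Subgroup G) : Set G) ≤ P := by
  intro c hc
  haveI : Nontrivial (Sylow 11 G) := Finite.one_lt_card_iff_nontrivial.mp (by rw [hn]; norm_num)
  obtain ⟨Q, hQ⟩ := exists_ne P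
  have hcP : c • P = P := Sylow.smul_eq_iff_mem_normalizer.mpr (centralizer_le_normalizer _ hc)
  let f : ↥(P : Subgroup G) → {R : Sylow 11 G // R ≠ P} := fun z => ⟨(z : G) • Q, fun e => hQ (by
    have hzP : (z : G) • P = P := Sylow.smul_eq_iff_mem_normalizer.mpr (le_normalizer z.2)
    exact MulAction.injective (z : G) (e.trans hzP.symm))⟩
  have hf : Function.Injective f := fun z w h => by
    have h' : (z : G) • Q = (w : G) • Q := congrArg Subtype.val h
    have := eq_one_of_fix hG hQ (mul_mem (inv_mem w.2) z.2) (by rw [mul_smul, h', inv_smul_smul])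
    exact (Subtype.ext (inv_mul_eq_one.mp this)).symm
  have hcard : Nat.card {R : Sylow 11 G // R ≠ P} = 11 := by
    classical
    haveI := Fintype.ofFinite (Sylow 11 G)
    rw [Nat.card_eq_fintype_card, Fintype.card_subtype_compl, Fintype.card_subtype_eq, ← Nat.card_eq_fintype_card, hn]
  have hbij := (Nat.bijective_iff_injective_and_card f).mpr ⟨hf, by rw [card_sylow11 hG P, hcard]⟩
  obtain ⟨z, hz⟩ := hbij.2 ⟨c • Q, fun e => hQ (MulAction.injective c (e.trans hcP.symm))⟩
  have hz' : (z : G) • Q = c • Q := congrArg Subtype.val hz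
  have hone : (z : G)⁻¹ * c = 1 := by
    refine faithful_sylow hG P fun R => ?_
    by_cases hR : R = P
    · rw [hR, mul_smul, hcP, inv_smul_eq_iff]
      exact (Sylow.smul_eq_iff_mem_normalizer.mpr (le_normalizer z.2)).symm
    obtain ⟨w, hw⟩ := hbij.2 ⟨R, hR⟩
    have hw' : (w : G) • Q = R := congrArg Subtype.val hw
    haveI : IsCyclic (P : Subgroup G) := isCyclic_of_prime_card (card_sylow11 hG P)
    have hzw : (z : G) * w = w * z := congrArg Subtype.val (IsCyclic.commutative.is_comm.comm z w)
    have hcw : c * w = w * c := (mem_centralizer_iff.mp hc w w.2).symm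
    rw [← hw', ← mul_smul, mul_assoc, hcw, ← mul_assoc,
      show (z : G)⁻¹ * w = w * (z : G)⁻¹ by rw [inv_mul_eq_iff_eq_mul, ← mul_assoc, hzw, mul_inv_cancel_right],
      mul_smul, mul_smul, ← hz', inv_smul_smul]
  rw [← inv_mul_eq_one.mp hone]
  exact z.2

/-- The last case: an element of order three in the centraliser. -/
theorem six_impossible (hG : Is47520 G) (P : Sylow 11 G)
    (hN : Nat.card (normalizer ((P : Subgroup G) : Set G)) = 330)
    {c : ℕ} (hC : Nat.card (centralizer ((P : Subgroup G) : Set G)) = c) (hc66 : c = 33 ∨ c = 66) : False := by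
  classical
  haveI : Fact (Nat.Prime 11) := ⟨by norm_num⟩
  haveI : Fact (Nat.Prime 3) := ⟨by norm_num⟩
  set N := normalizer ((P : Subgroup G) : Set G) with hNdef
  set C := centralizer ((P : Subgroup G) : Set G) with hCdef
  obtain ⟨y, hyC, hy⟩ := exists_order (show Nat.Prime 3 by norm_num) (show 3 ∣ Nat.card C by rw [hC]; rcases hc66 with rfl | rfl <;> norm_num)
  have hy1 : y ≠ 1 := fun e => by rw [e, orderOf_one] at hy; norm_num at hy
  have hyP : ∀ p ∈ (P : Subgroup G), p * y = y * p := fun p hp => mem_centralizer_iff.mp hyC p hp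
  -- the subgroup of order three of the centraliser is unique
  have huniq : ∀ z ∈ C, orderOf z = 3 → z ∈ zpowers y := by
    intro z hz hzo
    have h3 : Nat.card (Sylow 3 C) = 1 := by
      let S : Sylow 3 C := default
      have hS : Nat.card (S : Subgroup C) = 3 := by
        rw [S.card_eq_multiplicity, hC,
          CfsgLib.Order7920.fac_eq (show Nat.Prime 3 by norm_num) (k := 1) (by rcases hc66 with rfl | rfl <;> norm_num)
            (by rcases hc66 with rfl | rfl <;> norm_num) (by rcases hc66 with rfl | rfl <;> norm_num),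
          pow_one]
      have h1 := card_sylow_modEq_one 3 C
      rw [S.card_eq_index_normalizer] at h1 ⊢
      have hPC : (P : Subgroup G).subgroupOf C ≤ normalizer (S : Set C) :=
        le_trans (fun p hp => mem_centralizer_iff.mpr fun s _ => Subtype.ext
          (mem_centralizer_iff.mp s.2 p (mem_subgroupOf.mp hp)).symm) (centralizer_le_normalizer _)
      have hP11 : Nat.card ((P : Subgroup G).subgroupOf C) = 11 := by
        rw [Nat.card_congr (subgroupOfEquivOfLe (fun p hp => mem_centralizer_iff.mpr fun q hq => by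
          haveI : IsCyclic (P : Subgroup G) := isCyclic_of_prime_card (card_sylow11 hG P)
          exact congrArg Subtype.val (IsCyclic.commutative.is_comm.comm
            (⟨q, hq⟩ : (P : Subgroup G)) ⟨p, hp⟩) : (P : Subgroup G) ≤ C)).toEquiv, card_sylow11 hG P]
      have d11 := card_dvd_of_le hPC
      have d3 := card_dvd_of_le (le_normalizer : (S : Subgroup C) ≤ normalizer (S : Set C))
      rw [hP11] at d11
      rw [hS] at d3
      have hd : 33 ∣ Nat.card (normalizer (S : Set C)) :=
        Nat.Coprime.mul_dvd_of_dvd_of_dvd (by norm_num : Nat.Coprime 11 3) d11 d3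
      have hm := (normalizer (S : Set C)).card_mul_index
      rw [hC] at hm
      obtain ⟨q, hq⟩ := hd
      rw [hq] at hm
      have : (normalizer (S : Set C)).index ∣ 2 := by
        rcases hc66 with rfl | rfl
        · exact (show (normalizer (S : Set C)).index ∣ 1 from ⟨q, by nlinarith⟩).trans (one_dvd 2)
        · exact ⟨q, by nlinarith⟩
      rcases (Nat.dvd_prime Nat.prime_two).mp this with e | e
      · exact e
      · rw [e] at h1; exact absurd h1 (by decide)
    haveI : Subsingleton (Sylow 3 C) := (Nat.card_eq_one_iff_unique.mp h3).1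
    have hsy : ∀ w : C, orderOf w = 3 → ∃ S : Sylow 3 C, zpowers w = (S : Subgroup C) := fun w hw =>
      ⟨Sylow.ofCard (zpowers w) (by
        rw [Nat.card_zpowers, hw, hC, CfsgLib.Order7920.fac_eq (show Nat.Prime 3 by norm_num) (k := 1)
          (by rcases hc66 with rfl | rfl <;> norm_num) (by rcases hc66 with rfl | rfl <;> norm_num)
          (by rcases hc66 with rfl | rfl <;> norm_num), pow_one]), rfl⟩
    obtain ⟨S, hS⟩ := hsy ⟨y, hyC⟩ (by rw [← orderOf_coe]; exact hy)
    obtain ⟨T, hT⟩ := hsy ⟨z, hz⟩ (by rw [← orderOf_coe]; exact hzo)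
    have hzm : (⟨z, hz⟩ : C) ∈ zpowers (⟨y, hyC⟩ : C) := by
      rw [hS, Subsingleton.elim S T, ← hT]; exact mem_zpowers _
    obtain ⟨k, hk⟩ := mem_zpowers_iff.mp hzm
    exact mem_zpowers_iff.mpr ⟨k, by simpa using congrArg Subtype.val hk⟩
  have hconj : ∀ n ∈ N, n * y * n⁻¹ = y ∨ n * y * n⁻¹ = y⁻¹ := by
    intro n hn
    have hzC : n * y * n⁻¹ ∈ C := mem_centralizer_iff.mpr fun p hp => by
      have hp' : n⁻¹ * p * n ∈ (P : Subgroup G) := by
        simpa using (mem_normalizer_iff.mp (inv_mem hn) p).mp hp
      have := hyP _ hp'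
      calc p * (n * y * n⁻¹) = n * (n⁻¹ * p * n * y) * n⁻¹ := by group
        _ = n * (y * (n⁻¹ * p * n)) * n⁻¹ := by rw [this]
        _ = n * y * n⁻¹ * p := by group
    have h := huniq _ hzC (by rw [show n * y * n⁻¹ = MulAut.conj n y from rfl, MulEquiv.orderOf_eq, hy])
    rw [mem_zpowers_iff_mem_range_orderOf, Finset.mem_image] at h
    obtain ⟨k, hk, hk'⟩ := h
    rw [hy, Finset.mem_range] at hk
    interval_cases k
    · exfalso
      rw [pow_zero] at hk'
      exact hy1 ((MulAut.conj n).injective (by rw [map_one]; exact hk'.symm))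
    · exact Or.inl (by rw [← hk', pow_one])
    · refine Or.inr (hk'.symm.trans (eq_inv_of_mul_eq_one_left ?_))
      rw [← pow_succ]; exact (hy ▸ pow_orderOf_eq_one y : y ^ 3 = 1)
  set D := centralizer ({y} : Set G) with hDdef
  have hPD : (P : Subgroup G) ≤ D := fun p hp => mem_centralizer_singleton_iff.mpr (hyP p hp)
  have hND : Nat.card N ≤ 2 * Nat.card (N ⊓ D : Subgroup G) := by
    by_cases hle : N ≤ D
    · rw [inf_eq_left.mpr hle]; omega
    · obtain ⟨n0, hn0, hn0'⟩ := SetLike.not_le_iff_exists.mp hle
      have hinv : ∀ n ∈ N, n ∉ D → n * y * n⁻¹ = y⁻¹ := fun n hn hn' => (hconj n hn).resolve_left fun e =>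
        hn' (mem_centralizer_singleton_iff.mpr (mul_inv_eq_iff_eq_mul.mp e))
      have hmem : ∀ n : N, (n : G) ∉ D → n0⁻¹ * (n : G) ∈ N ⊓ D := fun n hn => by
        refine mem_inf.mpr ⟨mul_mem (inv_mem hn0) n.2, mem_centralizer_singleton_iff.mpr ?_⟩
        have e0 := hinv n0 hn0 hn0'
        have e1 := hinv n n.2 hn
        calc n0⁻¹ * (n : G) * y = n0⁻¹ * ((n : G) * y * (n : G)⁻¹) * n := by group
          _ = n0⁻¹ * (n0 * y * n0⁻¹) * n := by rw [e1, e0]
          _ = y * (n0⁻¹ * n) := by group
      let f : N → (N ⊓ D : Subgroup G) ⊕ (N ⊓ D : Subgroup G) := fun n =>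
        if h : (n : G) ∈ D then Sum.inl ⟨n, n.2, h⟩ else Sum.inr ⟨n0⁻¹ * (n : G), hmem n h⟩
      have hf : Function.Injective f := by
        intro a b hab
        simp only [f] at hab
        split_ifs at hab with h1 h2 h3
        · injection hab with h
          exact Subtype.ext (congrArg Subtype.val h :)
        · injection hab with h
          exact Subtype.ext (mul_left_cancel (congrArg Subtype.val h :))
      have := Nat.card_le_card_of_injective f hf
      rw [Nat.card_sum] at this
      omega
  have hD9 : 9 ∣ Nat.card D := by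
    obtain ⟨R, hR⟩ := IsPGroup.exists_le_sylow
      (IsPGroup.of_card (show Nat.card (zpowers y) = 3 ^ 1 by rw [Nat.card_zpowers, hy, pow_one]))
    exact sq_dvd_cent (n := 3) (by norm_num) R (card_sylow3 hG R) (hR (mem_zpowers y))
  -- the index of the centraliser is at most 24
  have hDle : D.index ≤ 24 := by
    let T : Sylow 11 D := P.subtype hPD
    have h1 := card_sylow_modEq_one 11 D
    rw [T.card_eq_index_normalizer] at h1
    have hT : normalizer (T : Set D) = N.subgroupOf D := by
      rw [hNdef, subgroupOf_normalizer_eq hPD]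
      rfl
    rw [hT] at h1
    have hm := (N.subgroupOf D).card_mul_index
    have hcard : Nat.card (N.subgroupOf D) = Nat.card (N ⊓ D : Subgroup G) := by
      rw [← inf_subgroupOf_right, Nat.card_congr (subgroupOfEquivOfLe (inf_le_right : N ⊓ D ≤ D)).toEquiv]
    rw [hcard] at hm
    have hne : (N.subgroupOf D).index ≠ 1 := fun e => by
      rw [e, mul_one] at hm
      have h9 := hD9.trans (hm ▸ card_dvd_of_le (inf_le_left : N ⊓ D ≤ N))
      rw [hN] at h9
      norm_num at h9
    have h12 : 12 ≤ (N.subgroupOf D).index := by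
      have := (N.subgroupOf D).index_ne_zero_of_finite
      simp only [Nat.ModEq] at h1
      omega
    have hbig : 1980 ≤ Nat.card D := by
      rw [← hm]
      nlinarith
    have hi := D.card_mul_index
    rw [card_eq hG] at hi
    nlinarith
  -- the element acts trivially on the cosets
  have hfix : ∀ x : G ⧸ D, y • x = x := by
    intro x
    by_contra hx
    induction x using QuotientGroup.induction_on with
    | H g =>
      by_cases hPg : ∀ p ∈ (P : Subgroup G), p • (g : G ⧸ D) = g
      · -- a fixed coset is represented in the normaliser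
        let T : Sylow 11 D := P.subtype hPD
        have hle : ((MulAut.conj g⁻¹) • P : Sylow 11 G).1 ≤ D := by
          rintro _ ⟨p, hp, rfl⟩
          have := QuotientGroup.eq.mp (hPg p hp).symm
          show g⁻¹ * p * (g⁻¹)⁻¹ ∈ D
          simpa [smul_eq_mul, mul_assoc] using this
        obtain ⟨d, hd⟩ := MulAction.exists_smul_eq D (((MulAut.conj g⁻¹) • P : Sylow 11 G).subtype hle) T
        rw [Sylow.smul_subtype hle] at hd
        have hd' := Sylow.subtype_injective hd
        rw [← Sylow.smul_def, Subgroup.smul_def, ← mul_smul] at hd'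
        have hn : (d : G) * g⁻¹ ∈ N := Sylow.smul_eq_iff_mem_normalizer.mp hd'
        apply hx
        show ((y * g : G) : G ⧸ D) = g
        refine (QuotientGroup.eq.mpr ?_).symm
        set n := (d : G) * g⁻¹ with hndef
        have hg' : g⁻¹ * (y * g) = (d : G)⁻¹ * (n * y * n⁻¹) * d := by rw [hndef]; group
        rw [hg']
        refine mul_mem (mul_mem (inv_mem d.2) ?_) d.2
        rcases hconj n hn with e | e <;> rw [e]
        · exact mem_centralizer_singleton_iff.mpr rfl
        · exact inv_mem (mem_centralizer_singleton_iff.mpr rfl)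
      · -- otherwise there are thirty-three cosets
        push Not at hPg
        obtain ⟨p0, hp0, hp0'⟩ := hPg
        have hstab : ∀ r ∈ (P : Subgroup G), r • (g : G ⧸ D) = g → r = 1 := by
          intro r hr hr'
          by_contra hr1
          apply hp0'
          have hz : zpowers r = (P : Subgroup G) := by
            refine eq_of_le_of_card_ge (zpowers_le.mpr hr) (le_of_eq ?_)
            rw [card_sylow11 hG P, Nat.card_zpowers]
            rcases (Nat.dvd_prime (by norm_num)).mp
              ((card_sylow11 hG P) ▸ orderOf_dvd_natCard (P : Subgroup G) hr) with e | e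
            · exact absurd (orderOf_eq_one_iff.mp e) hr1
            · exact e.symm
          exact (zpowers_le.mpr (show r ∈ MulAction.stabilizer G (g : G ⧸ D) from hr')) (hz.ge hp0)
        have hy3 : y ^ 3 = 1 := hy ▸ pow_orderOf_eq_one y
        have hnon : ∀ r ∈ (P : Subgroup G), ∀ d : ℕ, d = 1 ∨ d = 2 → r • (g : G ⧸ D) ≠ y ^ d • (g : G ⧸ D) := by
          intro r hr d hd e
          have hc : Commute r (y ^ d) := Commute.pow_right (hyP r hr) d
          have e2 : (r ^ 2) • (g : G ⧸ D) = (y ^ d) ^ 2 • (g : G ⧸ D) := by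
            rw [pow_two, pow_two, mul_smul, e, smul_smul, hc.eq, mul_smul, e, smul_smul]
          have e3 : (r ^ 3) • (g : G ⧸ D) = g := by
            rw [pow_succ', mul_smul, e2, smul_smul, (hc.pow_right 2).eq, mul_smul, e, smul_smul, ← pow_succ,
              ← pow_mul, mul_comm, pow_mul, hy3, one_pow, one_smul]
          have h3 := hstab _ (pow_mem hr 3) e3
          have hr1 : r = 1 := by
            have ho : orderOf r ∣ 11 := card_sylow11 hG P ▸ orderOf_dvd_natCard (P : Subgroup G) hr
            have ho' : orderOf r ∣ 3 := orderOf_dvd_of_pow_eq_one h3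
            exact orderOf_eq_one_iff.mp (Nat.dvd_one.mp (by simpa using Nat.dvd_gcd ho ho'))
          rw [hr1, one_smul] at e
          apply hx
          rcases hd with rfl | rfl
          · rw [pow_one] at e; exact e.symm
          · conv_rhs => rw [← one_smul G (g : G ⧸ D), ← hy3, pow_succ', mul_smul, ← e]
        let f : ↥(P : Subgroup G) × Fin 3 → G ⧸ D := fun a => (a.1 : G) • (y ^ (a.2 : ℕ)) • (g : G ⧸ D)
        have hf : Function.Injective f := by
          rintro ⟨a, i⟩ ⟨b, j⟩ hab
          simp only [f, smul_smul] at hab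
          have key : ∀ (a b : (P : Subgroup G)) (i j : ℕ), i ≤ j → j < 3 →
              ((a : G) * y ^ i) • (g : G ⧸ D) = ((b : G) * y ^ j) • (g : G ⧸ D) → a = b ∧ i = j := by
            intro a b i j hij hj h
            have hr : (b : G)⁻¹ * a ∈ (P : Subgroup G) := mul_mem (inv_mem b.2) a.2
            have hc : Commute ((b : G)⁻¹ * a) (y ^ i) := Commute.pow_right (hyP _ hr) i
            have h' := congrArg (fun w => ((b : G) * y ^ i)⁻¹ • w) h
            simp only [smul_smul] at h'
            rw [show ((b : G) * y ^ i)⁻¹ * ((a : G) * y ^ i) = (b : G)⁻¹ * a by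
                rw [mul_inv_rev, mul_assoc, ← mul_assoc ((b : G)⁻¹), hc.eq, inv_mul_cancel_left],
              show ((b : G) * y ^ i)⁻¹ * ((b : G) * y ^ j) = y ^ (j - i) by
                rw [mul_inv_rev, mul_assoc, inv_mul_cancel_left, inv_mul_eq_iff_eq_mul, ← pow_add]; congr 1; omega] at h'
            rcases Nat.eq_zero_or_pos (j - i) with e | e
            · rw [e, pow_zero, one_smul] at h'
              exact ⟨(Subtype.ext (inv_mul_eq_one.mp (hstab _ hr h'))).symm, by omega⟩
            · exact absurd h' (hnon _ hr _ (by omega))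
          rcases le_total (i : ℕ) (j : ℕ) with h | h
          · obtain ⟨e1, e2⟩ := key a b i j h j.2 hab
            rw [e1, Fin.ext e2]
          · obtain ⟨e1, e2⟩ := key b a j i h i.2 hab.symm
            rw [e1, Fin.ext e2.symm]
        have h33 := Nat.card_le_card_of_injective f hf
        rw [Nat.card_prod, card_sylow11 hG P, Nat.card_eq_fintype_card, Fintype.card_fin, ← D.index_eq_card] at h33
        omega
  refine hy1 ?_
  have hker : y ∈ D.normalCore := by
    rw [normalCore_eq_ker]
    exact MonoidHom.mem_ker.mpr (Equiv.ext hfix)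
  rcases normal_cases hG (normalCore_normal D) with e | e
  · exact mem_bot.mp (e ▸ hker)
  · exact absurd (eq_top_iff.mpr (e ▸ normalCore_le D)) (cent_ne_top hG hy1)


end CfsgM12Det.Half
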