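/-
Orders of non-abelian simple groups dividing 95040 and divisible by eleven.
-/
import Cfsg.Agent.Lib.SmallOrders.ClassEquation
import Cfsg.Agent.Lib.SimpleM11.Fourier
import Cfsg.Agent.Lib.M12Det.Half
import Cfsg.Agent.Lib.DegreeGraphSmall.Sections

set_option autoImplicit false
set_option maxRecDepth 100000
set_option linter.style.haveILetI false
set_option linter.unusedSectionVars false

namespace CfsgM12Det

open Cfsg CfsgLib.CharTheory CfsgLib.Blocks CfsgLib.SmallOrders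
open scoped ComplexConjugate

universe u
variable {G : Type u} [Group G] [Fintype G] [IsSimpleGroup G] {p : ℕ} [hpf : Fact p.Prime]
  {M : Ideal AlgInt} {P : Sylow p G}

/-- The values of the principal block at an involution inverting the Sylow subgroup, and the class
equation. -/
theorem inverting_data (hna : ∃ a b : G, a * b ≠ b * a) (hM : IsPModular p M) (hodd : p ≠ 2)
    (hP : Nat.card P = p) {m e : ℕ} (hN : Nat.card G = p * m) (hpm : ¬ p ∣ m)
    (hC : Nat.card (Subgroup.centralizer ((P : Subgroup G) : Set G)) = p) (he : 2 ∣ e)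
    (hNe : Nat.card (Subgroup.normalizer ((P : Subgroup G) : Set G)) =
      Nat.card (Subgroup.centralizer ((P : Subgroup G) : Set G)) * e)
    (S : Shape p M (P : Subgroup G) e) :
    ∃ (c : ℕ) (u : IrrCharacter G → ℤ) (b : ℤ),
      (∀ χ ∈ S.X, (p : ℤ) * (u χ).natAbs ≤
          |S.δ χ * (charDegree (χ : G → ℂ) : ℤ) + ((p : ℤ) - 1)| ∧
        (4 : ℤ) ∣ u χ - S.δ χ * (charDegree (χ : G → ℂ) : ℤ)) ∧
      b = 1 + ∑ χ ∈ S.X, S.δ χ * (charDegree (χ : G → ℂ) : ℤ) ∧
      (p : ℚ) * (c : ℚ) ^ 2 = (Nat.card G : ℚ) *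
        (1 + ∑ χ ∈ S.X, (u χ : ℚ) ^ 2 / ((S.δ χ * (charDegree (χ : G → ℂ) : ℤ) : ℤ) : ℚ) -
          (1 + ∑ χ ∈ S.X, (u χ : ℚ)) ^ 2 / (b : ℚ)) := by
  classical
  have hp : p.Prime := hpf.out
  have hm0 : m ≠ 0 := fun h => Nat.card_pos.ne' (by rw [hN, h, mul_zero] : Nat.card G = 0)
  have hval : (Nat.card G).factorization p = 1 := by
    rw [hN, Nat.factorization_mul hp.ne_zero hm0, Finsupp.add_apply, hp.factorization_self,
      Nat.factorization_eq_zero_of_not_dvd hpm]
  have hreg1 : ¬ p ∣ orderOf (1 : G) := by rw [orderOf_one]; exact hp.not_dvd_one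
  obtain ⟨t, ht, hinv⟩ := exists_inverting hodd hP hC he hNe
  have hregt : ¬ p ∣ orderOf t := fun h => by
    rw [ht] at h
    exact hodd ((Nat.prime_dvd_prime_iff_eq hp Nat.prime_two).1 h)
  have htt : t * t = 1 := by rw [← sq, ← ht, pow_orderOf_eq_one]
  have hhom : ∀ f : G →* ℂˣ, f = 1 := fun f => MonoidHom.ext fun g => hom_trivial hna f g
  choose k hk1 hk2 hk3 using fun χ : IrrCharacter G => CfsgSimpleM11.two_mults χ htt
  set v : IrrCharacter G → ℤ := fun χ => (charDegree (χ : G → ℂ) : ℤ) - 2 * k χ with hv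
  set u : IrrCharacter G → ℤ := fun χ => S.δ χ * v χ with hu
  have hδ : ∀ χ ∈ S.X, S.δ χ * S.δ χ = 1 := fun χ hχ => by
    rcases S.sign χ hχ with h | h <;> simp [h]
  have hvt : ∀ χ : IrrCharacter G, (χ : G → ℂ) t = (v χ : ℂ) := fun χ => hk2 χ
  obtain ⟨x, hx, hx1⟩ : ∃ x ∈ (P : Subgroup G), x ≠ 1 := by
    refine ((Subgroup.bot_or_exists_ne_one (P : Subgroup G)).resolve_left fun hb => hp.ne_one ?_)
    rw [← hP]; exact Subgroup.card_eq_one.2 hb
  obtain ⟨ψ, hψ⟩ : S.Y.Nonempty := Finset.card_pos.1 (S.cardY ▸ S.cardY_pos)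
  refine ⟨Nat.card (Subgroup.centralizer ({t} : Set G)), u, _, fun χ hχ => ⟨?_, ?_⟩, rfl, ?_⟩
  · have hb1 := value_bound hodd hP ht hinv (δ := S.δ χ) (v := v χ) (fun y hy hy1 => by
      have := S.valX χ hχ y hy hy1 1 (one_mem _) hreg1
      rwa [mul_one] at this) (hvt χ)
    have hn : (u χ).natAbs = (v χ).natAbs := by
      rcases S.sign χ hχ with h | h <;> simp [hu, h]
    rw [hn]
    refine hb1.trans ?_
    rcases S.sign χ hχ with h | h <;> rw [h]
    · exact le_abs.2 (Or.inl (by ring_nf; rfl))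
    · exact le_abs.2 (Or.inr (by ring_nf; rfl))
  · obtain ⟨j, hj⟩ := hk3 χ hhom
    refine ⟨-(S.δ χ * j), ?_⟩
    simp only [hu, hv, hj]
    push_cast
    ring
  set U : ℤ := 1 + ∑ χ ∈ S.X, u χ with hU
  have hY : ∀ φ ∈ S.Y, (φ : G → ℂ) t = ((S.ε * U : ℤ) : ℂ) := by
    intro φ hφ
    have h := S.relY φ hφ t hregt
    rw [Finset.sum_congr rfl fun χ hχ => by rw [hvt χ]] at h
    push_cast [hU, hu]
    rw [← h, ← mul_assoc]
    rcases S.signY with e1 | e1 <;> simp [e1]
  have hd : ∀ χ : IrrCharacter G, (charDegree (χ : G → ℂ) : ℂ) ≠ 0 := fun χ =>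
    Nat.cast_ne_zero.2 (irr_charDegree_pos χ).ne'
  set b : ℤ := 1 + ∑ χ ∈ S.X, S.δ χ * (charDegree (χ : G → ℂ) : ℤ) with hb
  have hbψ : S.ε * (charDegree (ψ : G → ℂ) : ℤ) = b := S.degree_relation hp hψ
  have h := pairCount_block hM hP hC hval S hx hx1 t
  rw [pairCount_self hodd hP hC ht hinv hx hx1] at h
  have hsumY : ∑ φ ∈ S.Y, (φ : G → ℂ) t ^ 2 / (φ : G → ℂ) 1 * conj ((φ : G → ℂ) x) =
      -(((U : ℤ) : ℂ) ^ 2 / (b : ℂ)) := by
    rw [Finset.sum_congr rfl fun φ hφ => by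
      rw [hY φ hφ, ← irr_charDegree_cast φ, S.charDegree_eq hp hφ hψ],
      ← Finset.mul_sum, ← map_sum, S.sumY x hx hx1, map_neg, map_intCast, ← hbψ]
    have := hd ψ
    rcases S.signY with e1 | e1 <;> simp only [e1] <;> push_cast <;> field_simp <;> ring
  have hsumX : ∑ χ ∈ S.X, (χ : G → ℂ) t ^ 2 / (χ : G → ℂ) 1 * (S.δ χ : ℂ) =
      ∑ χ ∈ S.X, (u χ : ℂ) ^ 2 / ((S.δ χ * (charDegree (χ : G → ℂ) : ℤ) : ℤ) : ℂ) := by
    refine Finset.sum_congr rfl fun χ hχ => ?_
    have := hd χ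
    rw [hvt χ, ← irr_charDegree_cast χ, hu]
    rcases S.sign χ hχ with e1 | e1 <;> simp only [e1] <;> push_cast <;> field_simp
  rw [hsumY, hsumX] at h
  apply (algebraMap ℚ ℂ).injective
  simp only [eq_ratCast, Rat.cast_mul, Rat.cast_pow, Rat.cast_natCast, Rat.cast_add, Rat.cast_sub,
    Rat.cast_one, Rat.cast_div, Rat.cast_intCast, Rat.cast_sum] at h ⊢
  rw [hU] at h
  push_cast at h ⊢
  linear_combination h

/-- The candidates for the degrees at the order 15840. -/
theorem cand_15840 : ∀ d ∈ List.range 126, 2 ≤ d → 1440 % d = 0 →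
    ((d % 11 = 1 → d = 12 ∨ d = 45) ∧ (d % 11 = 10 → d = 10 ∨ d = 32 ∨ d = 120)) := by decide +kernel

/-- The test on degree multisets. -/
def listOk (n1 n2 n3 n4 : ℕ) : Bool :=
  let b : ℤ := 1 + 12 * (n1 : ℤ) - 32 * n2 + 45 * n3 - 120 * n4
  decide (n1 + n2 + n3 + n4 ≠ 9) || decide (1440 % b.natAbs ≠ 0) || decide (b.natAbs < 2) ||
    decide ((b - 10) % 11 ≠ 0) ||
    decide (15840 < 1 + 144 * n1 + 1024 * n2 + 2025 * n3 + 14400 * n4 + b.natAbs * b.natAbs) ||
    (decide (n4 = 0) && ([(10, 1), (-45, 2), (32, 3), (-12, 3)] : List (ℤ × ℕ)).contains (b, n3))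

theorem listOk_all : ((List.range 10).all fun n1 => (List.range 10).all fun n2 => (List.range 10).all fun n3 =>
    (List.range 10).all fun n4 => listOk n1 n2 n3 n4) = true := by decide +kernel

/-- The possible degree multisets. -/
theorem lists_15840 {n1 n2 n3 n4 : ℕ} (hs : n1 + n2 + n3 + n4 = 9) {b : ℤ}
    (hb : b = 1 + 12 * (n1 : ℤ) - 32 * n2 + 45 * n3 - 120 * n4)
    (h1 : 1440 % b.natAbs = 0) (h2 : 2 ≤ b.natAbs) (h3 : (b - 10) % 11 = 0)
    (h4 : 1 + 144 * n1 + 1024 * n2 + 2025 * n3 + 14400 * n4 + b.natAbs * b.natAbs ≤ 15840) :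
    n4 = 0 ∧ (b, n3) ∈ ([(10, 1), (-45, 2), (32, 3), (-12, 3)] : List (ℤ × ℕ)) := by
  subst hb
  have h := listOk_all
  simp only [List.all_eq_true, List.mem_range] at h
  have h' := h n1 (by omega) n2 (by omega) n3 (by omega) n4 (by omega)
  simp only [listOk, Bool.or_eq_true, Bool.and_eq_true, decide_eq_true_eq, List.contains_iff_mem] at h'
  rcases h' with ((((h' | h') | h') | h') | h') | h'
  · exact absurd hs h'
  · exact absurd h1 h'
  · omega
  · exact absurd h3 h'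
  · omega
  · exact h'

/-- The right hand side of the class equation, times 1440. -/
def rhs (b : ℤ) (m1 m3 m5 : ℕ) : ℤ :=
  1440 + 32 * ((m1 : ℤ) + 9 * m3 + 25 * m5) -
    (1440 / b) * ((1 + (m1 : ℤ) - 3 * m3 + 5 * m5) * (1 + (m1 : ℤ) - 3 * m3 + 5 * m5))

theorem no_square : ∀ x ∈ ([(10, 1), (-45, 2), (32, 3), (-12, 3)] : List (ℤ × ℕ)), ∀ m1 < 4, ∀ m3 < 4,
    ∀ m5 < 4, m1 + m3 + m5 = x.2 → rhs x.1 m1 m3 m5 < 40000 ∧
      ∀ c < 200, ((c * c : ℕ) : ℤ) ≠ rhs x.1 m1 m3 m5 := by decide +kernel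

/-- Degree and value of a character of the block at the order 15840. -/
def Good (x : ℤ × ℤ) : Prop :=
  x = (12, 0) ∨ x = (-32, 0) ∨ x = (45, 1) ∨ x = (45, -3) ∨ x = (45, 5) ∨ x.1 = -120

/-- Sums over characters sorted by degree and value. -/
theorem tally {ι : Type*} (f : ι → ℤ × ℤ) (s : Finset ι) (hs : ∀ i ∈ s, Good (f i)) :
    ∃ n1 n2 m1 m3 m5 n4 : ℕ, s.card = n1 + n2 + (m1 + m3 + m5) + n4 ∧
      ∑ i ∈ s, (f i).1 = 12 * (n1 : ℤ) - 32 * n2 + 45 * ((m1 + m3 + m5 : ℕ) : ℤ) - 120 * n4 ∧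
      ∑ i ∈ s, (f i).1 * (f i).1 =
        144 * (n1 : ℤ) + 1024 * n2 + 2025 * ((m1 + m3 + m5 : ℕ) : ℤ) + 14400 * n4 ∧
      (n4 = 0 → ∑ i ∈ s, (f i).2 = (m1 : ℤ) - 3 * m3 + 5 * m5 ∧
        ∑ i ∈ s, (1440 / (f i).1) * ((f i).2 * (f i).2) = 32 * ((m1 : ℤ) + 9 * m3 + 25 * m5) ∧
        ∀ i ∈ s, (f i).1 ∣ 1440 ∧ (f i).1 ≠ 0) := by
  classical
  induction s using Finset.induction_on with
  | empty => exact ⟨0, 0, 0, 0, 0, 0, by simp, by simp, by simp, fun _ => by simp⟩
  | @insert j s hj ih =>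
    obtain ⟨n1, n2, m1, m3, m5, n4, hc, hA, hQ, hU⟩ := ih fun i hi => hs i (Finset.mem_insert_of_mem hi)
    have hjg := hs j (Finset.mem_insert_self j s)
    rw [Finset.card_insert_of_notMem hj]
    simp only [Finset.sum_insert hj, Finset.forall_mem_insert]
    rcases hjg with e | e | e | e | e | e
    · refine ⟨n1 + 1, n2, m1, m3, m5, n4, by omega, ?_, ?_, fun h => ?_⟩ <;>
        simp only [e] <;> first | (push_cast at hA hQ ⊢; linarith) | skip
      obtain ⟨h1, h2, h3⟩ := hU h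
      exact ⟨by push_cast at h1 ⊢; linarith, by norm_num; exact h2, ⟨by norm_num, by norm_num⟩, h3⟩
    · refine ⟨n1, n2 + 1, m1, m3, m5, n4, by omega, ?_, ?_, fun h => ?_⟩ <;>
        simp only [e] <;> first | (push_cast at hA hQ ⊢; linarith) | skip
      obtain ⟨h1, h2, h3⟩ := hU h
      exact ⟨by push_cast at h1 ⊢; linarith, by norm_num; exact h2, ⟨by norm_num, by norm_num⟩, h3⟩
    · refine ⟨n1, n2, m1 + 1, m3, m5, n4, by omega, ?_, ?_, fun h => ?_⟩ <;>
        simp only [e] <;> first | (push_cast at hA hQ ⊢; linarith) | skip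
      obtain ⟨h1, h2, h3⟩ := hU h
      exact ⟨by push_cast at h1 ⊢; linarith, by norm_num; linarith, ⟨by norm_num, by norm_num⟩, h3⟩
    · refine ⟨n1, n2, m1, m3 + 1, m5, n4, by omega, ?_, ?_, fun h => ?_⟩ <;>
        simp only [e] <;> first | (push_cast at hA hQ ⊢; linarith) | skip
      obtain ⟨h1, h2, h3⟩ := hU h
      exact ⟨by push_cast at h1 ⊢; linarith, by norm_num; linarith, ⟨by norm_num, by norm_num⟩, h3⟩
    · refine ⟨n1, n2, m1, m3, m5 + 1, n4, by omega, ?_, ?_, fun h => ?_⟩ <;>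
        simp only [e] <;> first | (push_cast at hA hQ ⊢; linarith) | skip
      obtain ⟨h1, h2, h3⟩ := hU h
      exact ⟨by push_cast at h1 ⊢; linarith, by norm_num; linarith, ⟨by norm_num, by norm_num⟩, h3⟩
    · refine ⟨n1, n2, m1, m3, m5, n4 + 1, by omega, ?_, ?_, fun h => absurd h (Nat.succ_ne_zero _)⟩ <;>
        (simp only [e]; push_cast at hA hQ ⊢; linarith)

section
variable {X : Type u} [Group X] [Fintype X] [IsSimpleGroup X]

theorem check_11880 : degCheck 11 1080 [(540, 2)] = true := by decide +kernel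

theorem check_15840 : degCheck 11 1440 [(144, 10)] = true := by decide +kernel

theorem check_47520 : degCheck 11 4320 [(12, 5), (12, 10), (144, 5), (144, 10)] = true := by decide +kernel

theorem check_6336 : degCheck 11 576 [] = true := by decide +kernel

theorem check_9504 : degCheck 11 864 [] = true := by decide +kernel

theorem check_10560 : degCheck 11 960 [] = true := by decide +kernel

theorem check_19008 : degCheck 11 1728 [] = true := by decide +kernel

theorem check_23760 : degCheck 11 2160 [] = true := by decide +kernel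

theorem check_31680 : degCheck 11 2880 [] = true := by decide +kernel

theorem card_ne_11880 : Nat.card X ≠ 11880 := fun h => by
  classical
  haveI : Fact (Nat.Prime 11) := ⟨by norm_num⟩
  obtain ⟨M, P, n, e, S, hM, hP, hC, hNe, hmem⟩ :=
    mem_exceptions (G := X) (p := 11) (m := 1080) (by norm_num) (h.trans (by norm_num)) (by norm_num)
      (by norm_num) check_11880
  obtain ⟨rfl, rfl⟩ : n = 540 ∧ e = 2 := by simpa using hmem
  have hC' : Nat.card (Subgroup.centralizer ((P : Subgroup X) : Set X)) = 11 := by omega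
  have hna := not_comm h (by norm_num)
  obtain ⟨c, u, b, hu, hb, -⟩ := inverting_data hna hM (by norm_num) hP (h.trans (by norm_num : 11880 = 11 * 1080))
    (by norm_num) hC' dvd_rfl hNe S
  obtain ⟨χ, hχ⟩ := Finset.card_eq_one.1 S.cardX
  have hχX : χ ∈ S.X := by rw [hχ]; exact Finset.mem_singleton_self χ
  obtain ⟨hu1, hu4⟩ := hu χ hχX
  have := le_abs_self (u χ)
  have := neg_abs_le (u χ)
  obtain ⟨ψ, hψ⟩ : S.Y.Nonempty := Finset.card_pos.1 (S.cardY ▸ S.cardY_pos)
  have hψd := S.degree_relation (by norm_num) hψ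
  rw [hχ, Finset.sum_singleton] at hψd
  have hd2 : 2 ≤ charDegree (χ : X → ℂ) := two_le_charDegree hna fun e => S.one_notX (e ▸ hχX)
  have hdd := charDegree_dvd_card χ
  have hdψ := charDegree_dvd_card ψ
  have hsq := S.sum_sq_degree_le
  rw [hχ, Finset.sum_singleton, h, Finset.sum_congr (s₁ := S.Y) rfl fun θ hθ => by
      rw [S.charDegree_eq (by norm_num) hθ hψ], Finset.sum_const, S.cardY, smul_eq_mul] at hsq
  rw [h] at hdd hdψ
  generalize hdχ : charDegree (χ : X → ℂ) = d at *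
  generalize charDegree (ψ : X → ℂ) = g at *
  have hdeg := S.degX χ hχX
  rw [hdχ] at hdeg
  have hdlt : d < 109 := by nlinarith
  have key : ∀ d ∈ List.range 109, 2 ≤ d → 11880 % d = 0 →
      (d % 11 = 1 → d + 1 < 2 ∨ 11880 % (d + 1) ≠ 0) ∧
      (d % 11 = 10 → d = 10 ∨ 11880 % (d - 1) ≠ 0) := by decide +kernel
  obtain ⟨k1, k2⟩ := key d (List.mem_range.mpr hdlt) hd2 (Nat.mod_eq_zero_of_dvd hdd)
  have hg := Nat.mod_eq_zero_of_dvd hdψ
  rcases S.sign χ hχX with hs | hs <;> rcases S.signY with he | he <;> rw [hs, he] at hψd <;>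
    rw [hs] at hdeg hu1 hu4
  · rw [show g = d + 1 by omega] at hg
    rcases k1 (by omega) with h' | h' <;> omega
  · omega
  · omega
  · rcases k2 (by omega) with h' | h'
    · subst h'
      norm_num at hu1
      omega
    · rw [show g = d - 1 by omega] at hg
      exact h' hg

theorem card_ne_15840 : Nat.card X ≠ 15840 := fun h => by
  classical
  haveI : Fact (Nat.Prime 11) := ⟨by norm_num⟩
  obtain ⟨M, P, n, e, S, hM, hP, hC, hNe, hmem⟩ :=
    mem_exceptions (G := X) (p := 11) (m := 1440) (by norm_num) (h.trans (by norm_num)) (by norm_num)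
      (by norm_num) check_15840
  obtain ⟨rfl, rfl⟩ : n = 144 ∧ e = 10 := by simpa using hmem
  have hC' : Nat.card (Subgroup.centralizer ((P : Subgroup X) : Set X)) = 11 := by omega
  have hna := not_comm h (by norm_num)
  obtain ⟨c, u, b, hu, hb, heq⟩ := inverting_data hna hM (by norm_num) hP
    (h.trans (by norm_num : 15840 = 11 * 1440)) (by norm_num) hC' (by norm_num) hNe S
  obtain ⟨ψ, hψ⟩ : S.Y.Nonempty := Finset.card_pos.1 (S.cardY ▸ S.cardY_pos)
  have hψd := S.degree_relation (by norm_num) hψ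
  have hne : ∀ χ ∈ S.X, χ ≠ oneIrr X := fun χ hχ e => S.one_notX (e ▸ hχ)
  have hsq := S.sum_sq_degree_le
  rw [h, Finset.sum_congr (s₁ := S.Y) rfl fun θ hθ => by rw [S.charDegree_eq (by norm_num) hθ hψ],
    Finset.sum_const, S.cardY, smul_eq_mul] at hsq
  let f : IrrCharacter X → ℤ × ℤ := fun χ => (S.δ χ * (charDegree (χ : X → ℂ) : ℤ), u χ)
  have hgood : ∀ χ ∈ S.X, Good (f χ) := by
    intro χ hχ
    obtain ⟨hu1, hu4⟩ := hu χ hχ
    have := le_abs_self (u χ)
    have := neg_abs_le (u χ)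
    have hd2 := two_le_charDegree hna (hne χ hχ)
    have hdd : charDegree (χ : X → ℂ) ∣ 11 * 1440 := (h.trans (by norm_num : 15840 = 11 * 1440)) ▸ charDegree_dvd_card χ
    have hdeg := S.degX χ hχ
    have hle : charDegree (χ : X → ℂ) ^ 2 ≤ ∑ φ ∈ S.X, charDegree (φ : X → ℂ) ^ 2 :=
      Finset.single_le_sum (f := fun φ : IrrCharacter X => charDegree (φ : X → ℂ) ^ 2)
        (fun _ _ => Nat.zero_le _) hχ
    generalize hdχ : charDegree (χ : X → ℂ) = d at *
    have hdlt : d < 126 := by nlinarith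
    have h11 : ¬ 11 ∣ d := fun hd => by
      rcases S.sign χ hχ with hs | hs <;> rw [hs] at hdeg <;> omega
    have hd1440 := dvd_of_dvd_mul_prime (show Nat.Prime 11 by norm_num) hdd h11
    obtain ⟨k1, k2⟩ := cand_15840 d (List.mem_range.mpr hdlt) hd2 (Nat.mod_eq_zero_of_dvd hd1440)
    unfold Good
    simp only [f, hdχ, Prod.mk.injEq]
    rcases S.sign χ hχ with hs | hs <;> rw [hs] at hdeg hu1 hu4 ⊢
    · rcases k1 (by omega) with rfl | rfl <;> norm_num at hu1 hu4 ⊢ <;> omega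
    · rcases k2 (by omega) with rfl | rfl | rfl <;> norm_num at hu1 hu4 ⊢ <;> omega
  obtain ⟨n1, n2, m1, m3, m5, n4, hcard, hA, hQ, hU⟩ := tally f S.X hgood
  have hdψ : charDegree (ψ : X → ℂ) ∣ 11 * 1440 :=
    (h.trans (by norm_num : 15840 = 11 * 1440)) ▸ charDegree_dvd_card ψ
  have hbn : b.natAbs = charDegree (ψ : X → ℂ) := by
    rw [hb, ← hψd]
    rcases S.signY with e1 | e1 <;> simp [e1]
  have hb10 : (b - 10) % 11 = 0 := by
    rw [hb, ← hψd]
    exact Int.emod_eq_zero_of_dvd (S.degY ψ hψ)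
  have hb2 : 2 ≤ b.natAbs := hbn ▸ two_le_charDegree hna fun e => S.one_notY (e ▸ hψ)
  have hb1440 : 1440 % b.natAbs = 0 := Nat.mod_eq_zero_of_dvd (hbn ▸ dvd_of_dvd_mul_prime
    (show Nat.Prime 11 by norm_num) hdψ fun hd => by
      rw [← hbn] at hd
      omega)
  rw [S.cardX] at hcard
  have hb' : b = 1 + 12 * (n1 : ℤ) - 32 * n2 + 45 * ((m1 + m3 + m5 : ℕ) : ℤ) - 120 * n4 := by
    rw [hb]; simp only [f] at hA; omega
  have hsum2 : ((∑ χ ∈ S.X, charDegree (χ : X → ℂ) ^ 2 : ℕ) : ℤ) = ∑ χ ∈ S.X, (f χ).1 * (f χ).1 := by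
    push_cast
    refine Finset.sum_congr rfl fun χ hχ => ?_
    rcases S.sign χ hχ with hs | hs <;> simp [f, hs, sq]
  rw [← hbn, sq b.natAbs, show (11 - 1) / 10 = 1 by norm_num, one_mul] at hsq
  have hlist : 1 + 144 * n1 + 1024 * n2 + 2025 * (m1 + m3 + m5) + 14400 * n4 + b.natAbs * b.natAbs ≤ 15840 := by
    rw [hQ] at hsum2
    omega
  obtain ⟨rfl, hmem⟩ := lists_15840 (n1 := n1) (n2 := n2)
    (n3 := m1 + m3 + m5) (n4 := n4) (by omega) hb' hb1440 hb2 hb10 hlist
  obtain ⟨hUs, hW, hdiv⟩ := hU rfl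
  have hm : m1 + m3 + m5 ≤ 3 := by
    simp only [List.mem_cons, List.not_mem_nil, or_false, Prod.mk.injEq] at hmem
    omega
  obtain ⟨hlt, hns⟩ := no_square (b, m1 + m3 + m5) hmem m1 (by omega) m3 (by omega) m5 (by omega) rfl
  simp only at hlt hns
  have hb0 : b ≠ 0 := by intro e; rw [e] at hb2; simp at hb2
  have hbd : b ∣ 1440 := Int.natAbs_dvd.1 (Int.natCast_dvd_natCast.2 (Nat.dvd_of_mod_eq_zero hb1440))
  have hz : ((c * c : ℕ) : ℤ) = rhs b m1 m3 m5 := by
    have hterm : ∀ χ ∈ S.X, (u χ : ℚ) ^ 2 / ((S.δ χ * (charDegree (χ : X → ℂ) : ℤ) : ℤ) : ℚ) =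
        (((1440 / (f χ).1) * ((f χ).2 * (f χ).2) : ℤ) : ℚ) / 1440 := by
      intro χ hχ
      obtain ⟨h1, h2⟩ := hdiv χ hχ
      have h2' : ((f χ).1 : ℚ) ≠ 0 := by exact_mod_cast h2
      push_cast
      rw [Int.cast_div h1 h2']
      simp only [f]
      field_simp
      push_cast
      ring
    rw [Finset.sum_congr rfl hterm, ← Finset.sum_div, ← Int.cast_sum, hW, ← Int.cast_sum, h] at heq
    rw [show ∑ χ ∈ S.X, u χ = (m1 : ℤ) - 3 * m3 + 5 * m5 from hUs] at heq
    have hb0' : (b : ℚ) ≠ 0 := by exact_mod_cast hb0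
    have : (((c * c : ℕ) : ℤ) : ℚ) = (rhs b m1 m3 m5 : ℚ) := by
      rw [rhs]
      push_cast
      rw [Int.cast_div hbd hb0']
      push_cast at heq ⊢
      linear_combination (1 / 11 : ℚ) * heq
    exact_mod_cast this
  refine hns c ?_ hz
  by_contra hcon
  have : (200 : ℤ) * 200 ≤ ((c * c : ℕ) : ℤ) := by
    have : 200 * 200 ≤ c * c := Nat.mul_le_mul (by omega) (by omega)
    exact_mod_cast this
  omega

theorem card_ne_47520 : Nat.card X ≠ 47520 := fun h => by
  classical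
  haveI : Fact (Nat.Prime 11) := ⟨by norm_num⟩
  obtain ⟨M, P, n, e, S, hM, hP, hC, hNe, hmem⟩ :=
    mem_exceptions (G := X) (p := 11) (m := 4320) (by norm_num) (h.trans (by norm_num)) (by norm_num)
      (by norm_num) check_47520
  have hG : Half.Is47520 X := ⟨inferInstance, h⟩
  have hn : Nat.card (Sylow 11 X) = n := by
    have h1 := (Subgroup.normalizer ((P : Subgroup X) : Set X)).card_mul_index
    rw [h, hNe] at h1
    replace h1 := (congrArg _ P.card_eq_index_normalizer).trans h1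
    have h2 : 0 < Nat.card (Subgroup.centralizer ((P : Subgroup X) : Set X)) * e := hNe ▸ Nat.card_pos
    refine Nat.eq_of_mul_eq_mul_left h2 (h1.trans ?_)
    rw [show (47520 : ℕ) = 11 * 4320 by norm_num, ← hC]; ring
  simp only [List.mem_cons, List.not_mem_nil, or_false, Prod.mk.injEq] at hmem
  rcases hmem with ⟨rfl, rfl⟩ | ⟨rfl, rfl⟩ | ⟨rfl, rfl⟩ | ⟨rfl, rfl⟩
  · have h1 := Subgroup.card_dvd_of_le (Half.cent_le_of_twelve hG P hn)
    rw [show Nat.card (P : Subgroup X) = 11 from hP] at h1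
    have := Nat.le_of_dvd (by norm_num) h1
    omega
  · have h1 := Subgroup.card_dvd_of_le (Half.cent_le_of_twelve hG P hn)
    rw [show Nat.card (P : Subgroup X) = 11 from hP] at h1
    have := Nat.le_of_dvd (by norm_num) h1
    omega
  · exact Half.six_impossible hG P (c := 66) (by omega) (by omega) (Or.inr rfl)
  · exact Half.six_impossible hG P (c := 33) (by omega) (by omega) (Or.inl rfl)

end

/-- A non-abelian simple group of order dividing 95040 and divisible by eleven. -/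
theorem simple_orders {T : Type u} [Group T] [Finite T] [IsSimpleGroup T] (hT : ¬ IsMulCommutative T)
    (hd : Nat.card T ∣ 95040) (h11 : 11 ∣ Nat.card T) :
    Nat.card T = 660 ∨ Nat.card T = 7920 ∨ Nat.card T = 95040 := by
  obtain ⟨m, hm⟩ := h11
  rcases Nat.lt_or_ge (Nat.card T) 6000 with hlt | hge
  · have hs := CfsgLib.DegreeGraphSmall.simple_mem hT hlt
    simp only [CfsgLib.DegreeGraphSmall.smallOrders, List.mem_cons, List.not_mem_nil, or_false] at hs
    rcases hs with e | e | e | e | e | e | e | e | e | e | e <;> rw [e] at hm hd <;>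
      first | exact Or.inl e | omega | norm_num at hd
  have hm8 : m ∣ 8640 := by
    rw [hm, show (95040 : ℕ) = 11 * 8640 by norm_num] at hd
    exact (Nat.mul_dvd_mul_iff_left (by norm_num)).mp hd
  have hlist : m ∈ ([576, 720, 864, 960, 1080, 1440, 1728, 2160, 2880, 4320, 8640] : List ℕ) := by
    obtain ⟨q, hq⟩ := hm8
    have hm0 : 545 ≤ m := by omega
    have hq16 : q < 16 := by
      by_contra hcon
      have := Nat.mul_le_mul hm0 (not_lt.mp hcon)
      omega
    simp only [List.mem_cons, List.not_mem_nil, or_false]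
    interval_cases q <;> omega
  haveI := Fintype.ofFinite T
  haveI : Fact (Nat.Prime 11) := ⟨by norm_num⟩
  have deg : ∀ m' : ℕ, degCheck 11 m' [] = true → ¬ 11 ∣ m' → 1 < m' → Nat.card T ≠ 11 * m' :=
    fun m' hc h1 h2 he => false_of_degCheck (G := T) (by norm_num) he h1 h2 hc
  simp only [List.mem_cons, List.not_mem_nil, or_false] at hlist
  rcases hlist with rfl | rfl | rfl | rfl | rfl | rfl | rfl | rfl | rfl | rfl | rfl
  · exact (deg 576 check_6336 (by norm_num) (by norm_num) hm).elim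
  · exact Or.inr (Or.inl hm)
  · exact (deg 864 check_9504 (by norm_num) (by norm_num) hm).elim
  · exact (deg 960 check_10560 (by norm_num) (by norm_num) hm).elim
  · exact (card_ne_11880 (X := T) hm).elim
  · exact (card_ne_15840 (X := T) hm).elim
  · exact (deg 1728 check_19008 (by norm_num) (by norm_num) hm).elim
  · exact (deg 2160 check_23760 (by norm_num) (by norm_num) hm).elim
  · exact (deg 2880 check_31680 (by norm_num) (by norm_num) hm).elim
  · exact (card_ne_47520 (X := T) hm).elim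
  · exact Or.inr (Or.inr hm)

end CfsgM12Det
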