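/-
The groups with the order and the character degree graph of the Mathieu group of degree twelve.
-/
import Cfsg.Agent.Lib.M12Det.Basic
import Cfsg.Agent.Lib.M12Det.Orders
import Cfsg.Agent.Lib.M12Det.Degrees
import Cfsg.Agent.Lib.DegreeGraphSmall.Dichotomy
import Cfsg.Agent.Lib.DihedralShape
import Cfsg.Agent.Lib.CharTheory.ExtCriteria
import Cfsg.Agent.Lib.SimpleM11.Table
import Cfsg.Agent.Lib.SimpleM11.Recognition
import Cfsg.Agent.Lib.Golay.OutMathieuSmall
import Cfsg.Agent.Lib.StemSylow.M11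
import Cfsg.Agent.Lib.SchurSmall
import Cfsg.Agent.S0188

set_option autoImplicit false
set_option linter.style.haveILetI false
set_option linter.unusedSectionVars false

namespace CfsgM12Det.Graph

open Cfsg
open scoped commutatorElement
open CfsgLib (solvableRadical solvableRadical_normal isSolvable_solvableRadical le_solvableRadical exists_minimal_normal)
open CfsgLib.DegreeGraphSmall (exists_dvd smallOrders centralizes_normal dichotomy_aux normal_map_subtype
  coprime_index not_mem_degreePrimes degree_center)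

universe u

variable {G : Type u} [Group G] [Finite G]

theorem prime_power_check : ∀ d ∈ Nat.divisors 8640, d ≠ 1 → 11 ∣ d - 1 → 6 ∣ d ∨ 10 ∣ d ∨ 15 ∣ d := by
  decide +kernel

/-- No prime power dividing 8640 leaves room for an element of order eleven. -/
theorem no_room {q i : ℕ} (hq : q.Prime) (hi : 1 ≤ i) (hd : q ^ i ∣ 8640) : ¬ 11 ∣ q ^ i - 1 := fun h => by
  have h1 : q ^ i ≠ 1 := (Nat.one_lt_pow (by omega) hq.one_lt).ne'
  have key : ∀ {p : ℕ}, p.Prime → p ∣ q ^ i → p = q := fun hp hk =>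
    (Nat.prime_dvd_prime_iff_eq hp hq).1 (hp.dvd_of_dvd_pow hk)
  have h2 := Nat.prime_two
  have h3 := Nat.prime_three
  have h5 : Nat.Prime 5 := by norm_num
  rcases prime_power_check _ (Nat.mem_divisors.2 ⟨hd, by norm_num⟩) h1 h with e | e | e
  · have := (key h2 (Dvd.dvd.trans (by norm_num) e)).trans (key h3 (Dvd.dvd.trans (by norm_num) e)).symm
    omega
  · have := (key h2 (Dvd.dvd.trans (by norm_num) e)).trans (key h5 (Dvd.dvd.trans (by norm_num) e)).symm
    omega
  · have := (key h3 (Dvd.dvd.trans (by norm_num) e)).trans (key h5 (Dvd.dvd.trans (by norm_num) e)).symm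
    omega

theorem dvd_8640 {k : ℕ} (hd : k ∣ 95040) (h11 : ¬ 11 ∣ k) : k ∣ 8640 :=
  (Nat.Coprime.dvd_of_dvd_mul_left (((by norm_num : Nat.Prime 11).coprime_iff_not_dvd.2 h11).symm)
    (by simpa using hd : k ∣ 11 * 8640))

theorem five_dvd {X : Type u} [Group X] [Finite X] (hX : ¬ Group.IsSolvable X) (hd : Nat.card X ∣ 95040)
    (hlt : Nat.card X < 6000) : 60 ≤ Nat.card X ∧ 5 ∣ Nat.card X := by
  obtain ⟨m, hm, hmd⟩ := exists_dvd hlt hX
  have hm' := hmd.trans hd
  have hpos : 0 < Nat.card X := Nat.card_pos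
  have hle := Nat.le_of_dvd hpos hmd
  simp only [smallOrders, List.mem_cons, List.not_mem_nil, or_false] at hm
  rcases hm with rfl | rfl | rfl | rfl | rfl | rfl | rfl | rfl | rfl | rfl | rfl <;>
    first
      | (exfalso; norm_num at hm'; done)
      | exact ⟨by omega, Dvd.dvd.trans (by norm_num) hmd⟩

/-- Two commuting non-solvable subgroups do not fit. -/
theorem false_pair {X : Type u} [Group X] [Finite X] (hX : Nat.card X ∣ 95040) {A B : Subgroup X}
    (hAB : ∀ a ∈ A, ∀ b ∈ B, Commute a b) (hd : Disjoint A B) (hA : ¬ Group.IsSolvable A)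
    (hB : ¬ Group.IsSolvable B) : False := by
  have hA1 : Nat.card A ∣ 95040 := (Subgroup.card_subgroup_dvd_card A).trans hX
  have hB1 : Nat.card B ∣ 95040 := (Subgroup.card_subgroup_dvd_card B).trans hX
  let f : A × B →* X := A.subtype.noncommCoprod B.subtype fun x y => hAB x x.2 y y.2
  have hinj : Function.Injective f := by
    refine (injective_iff_map_eq_one f).2 fun z hz => ?_
    have h1 : (z.1 : X) * z.2 = 1 := hz
    have h2 : (z.1 : X) ∈ A ⊓ B := ⟨z.1.2, by rw [eq_inv_of_mul_eq_one_left h1]; exact B.inv_mem z.2.2⟩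
    rw [hd.eq_bot, Subgroup.mem_bot] at h2
    rw [h2, one_mul] at h1
    exact Prod.ext (Subtype.ext h2) (Subtype.ext h1)
  have h3 : Nat.card A * Nat.card B ∣ 95040 := by
    have := (Subgroup.card_dvd_of_injective f hinj).trans hX
    rwa [Nat.card_prod] at this
  have hle := Nat.le_of_dvd (by norm_num) h3
  have hAlt : Nat.card A < 6000 := by
    by_contra hc
    have hBle : Nat.card B ≤ 15 := by
      by_contra h
      have := Nat.mul_le_mul (not_lt.1 hc) (not_le.1 h : 15 < Nat.card B)
      omega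
    have := (five_dvd hB hB1 (by omega)).1
    omega
  have hA5 := five_dvd hA hA1 hAlt
  have hBlt : Nat.card B < 6000 := by
    by_contra hc
    have := Nat.mul_le_mul hA5.1 (not_lt.1 hc)
    omega
  have h25 : 5 * 5 ∣ 95040 := (Nat.mul_dvd_mul hA5.2 (five_dvd hB hB1 hBlt).2).trans h3
  norm_num at h25

/-- The simple socle modulo the solvable radical. -/
theorem exists_socle (hG : Nat.card G ∣ 95040) (hR : solvableRadical G ≠ ⊤) :
    ∃ (R : Subgroup G) (_ : R.Normal) (T : Subgroup (G ⧸ R)), R = solvableRadical G ∧ T.Normal ∧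
      IsSimpleGroup T ∧ ¬ IsMulCommutative T ∧ Subgroup.centralizer (T : Set (G ⧸ R)) = ⊥ := by
  classical
  set R := solvableRadical G with hRdef
  have hRs : Group.IsSolvable R := isSolvable_solvableRadical
  haveI : R.Normal := solvableRadical_normal
  have hQdvd : Nat.card (G ⧸ R) ∣ 95040 :=
    (Dvd.intro _ (Subgroup.card_eq_card_quotient_mul_card_subgroup R).symm).trans hG
  have hno : ∀ W : Subgroup (G ⧸ R), W.Normal → Group.IsSolvable W → W = ⊥ := by
    intro W hW hWs
    have h1 : Group.IsSolvable (W.comap (QuotientGroup.mk' R)) := by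
      haveI := hRs
      haveI := hWs
      refine solvable_of_ker_le_range (Subgroup.inclusion (show R ≤ W.comap (QuotientGroup.mk' R) from
        fun r hr => by
          rw [Subgroup.mem_comap, QuotientGroup.mk'_apply, (QuotientGroup.eq_one_iff r).2 hr]
          exact one_mem W))
        ((QuotientGroup.mk' R).subgroupComap W) fun y hy => ?_
      refine ⟨⟨(y : G), ?_⟩, rfl⟩
      exact (QuotientGroup.eq_one_iff (y : G)).1 (congrArg Subtype.val (MonoidHom.mem_ker.1 hy))
    haveI := hW.comap (QuotientGroup.mk' R)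
    have h2 := le_solvableRadical h1
    rw [eq_bot_iff]
    intro w hw
    obtain ⟨g, rfl⟩ := QuotientGroup.mk'_surjective R w
    rw [Subgroup.mem_bot, QuotientGroup.mk'_apply, QuotientGroup.eq_one_iff]
    exact h2 hw
  haveI : Nontrivial (G ⧸ R) := QuotientGroup.nontrivial_iff.2 hR
  obtain ⟨T, hTn, -, hT0, hTmin⟩ :=
    exists_minimal_normal (N := (⊤ : Subgroup (G ⧸ R))) top_ne_bot
  haveI := hTn
  have hTs : ¬ Group.IsSolvable T := fun h => hT0 (hno T hTn h)
  haveI : Nontrivial T := T.nontrivial_iff_ne_bot.2 hT0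
  have hTsimple : IsSimpleGroup T := by
    obtain ⟨M, hMn, -, hM0, hMmin⟩ := exists_minimal_normal (N := (⊤ : Subgroup T)) top_ne_bot
    haveI := hMn
    have hMs : ¬ Group.IsSolvable M := fun h => by
      have h1 := le_solvableRadical h
      have h2 : (solvableRadical T).map T.subtype = ⊥ := hno _ inferInstance (by
        haveI := isSolvable_solvableRadical (G := T)
        exact Group.isSolvable_of_surjective (T.subtype.subgroupMap_surjective _))
      exact hM0 (eq_bot_iff.2 (h1.trans ((Subgroup.map_eq_bot_iff_of_injective _ T.subtype_injective).1 h2).le))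
    by_cases hMtop : M = ⊤
    · exact { eq_bot_or_eq_top_of_normal := fun K hK => by
                rcases hMmin K hK (hMtop ▸ le_top) with e | e
                · exact Or.inl e
                · exact Or.inr (e.trans hMtop) }
    exfalso
    by_cases hall : ∀ g : G ⧸ R, M.map (MulAut.conjNormal g : MulAut T).toMonoidHom = M
    · have hMQ : (M.map T.subtype).Normal := ⟨fun m hm g => by
        obtain ⟨m, hm, rfl⟩ := hm
        exact ⟨(MulAut.conjNormal g : MulAut T) m, (hall g).le ⟨m, hm, rfl⟩, by simp⟩⟩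
      rcases hTmin _ hMQ (Subgroup.map_subtype_le M) with e | e
      · exact hM0 ((Subgroup.map_eq_bot_iff_of_injective _ T.subtype_injective).1 e)
      · refine hMtop (Subgroup.map_injective T.subtype_injective ?_)
        rw [e, ← MonoidHom.range_eq_map, Subgroup.range_subtype]
    · push Not at hall
      obtain ⟨g, hg⟩ := hall
      set f : MulAut T := MulAut.conjNormal g
      have hM'n : (M.map f.toMonoidHom).Normal := hMn.map f.toMonoidHom f.surjective
      have hd : Disjoint M (M.map f.toMonoidHom) := by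
        rw [disjoint_iff]
        refine (hMmin (M ⊓ M.map f.toMonoidHom) inferInstance inf_le_left).resolve_right fun e => hg ?_
        have hle : M ≤ M.map f.toMonoidHom := inf_eq_left.1 e
        exact (Subgroup.eq_of_le_of_card_ge hle
          (Subgroup.card_map_of_injective (K := M) (f := f.toMonoidHom) f.injective).le).symm
      refine false_pair ((Subgroup.card_subgroup_dvd_card T).trans hQdvd) (A := M) (B := M.map f.toMonoidHom)
        (fun a ha b hb => Subgroup.commute_of_normal_of_disjoint M _ hMn hM'n hd a b ha hb) hd hMs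
        fun h => hMs ?_
      haveI := h
      exact solvable_of_solvable_injective
        (f := (M.equivMapOfInjective f.toMonoidHom f.injective).toMonoidHom) (MulEquiv.injective _)
  have hTna : ¬ IsMulCommutative T := fun hc => hTs (by
    letI : CommGroup T := { (inferInstance : Group T) with mul_comm := hc.is_comm.comm }
    exact inferInstance)
  refine ⟨R, inferInstance, T, rfl, hTn, hTsimple, hTna, ?_⟩
  by_contra hC
  haveI : (Subgroup.centralizer (T : Set (G ⧸ R))).Normal := Subgroup.normal_centralizer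
  have hCs : ¬ Group.IsSolvable (Subgroup.centralizer (T : Set (G ⧸ R))) :=
    fun h => hC (hno _ inferInstance h)
  have hd : Disjoint T (Subgroup.centralizer (T : Set (G ⧸ R))) := by
    rw [disjoint_iff]
    refine (hTmin _ inferInstance inf_le_left).resolve_right fun e => hTna ?_
    exact ⟨⟨fun a b => Subtype.ext (Subgroup.mem_centralizer_iff.1 (inf_eq_left.1 e b.2) a a.2)⟩⟩
  exact false_pair hQdvd (fun a ha b hb => Subgroup.mem_centralizer_iff.1 hb a ha) hd hTs hCs

/-- Eleven does not divide the order of the solvable radical. -/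
theorem radical_not_dvd (hG : Nat.card G = 95040) (h11 : 11 ∈ degreePrimes G) :
    ¬ 11 ∣ Nat.card (solvableRadical G) := fun h => by
  classical
  haveI : Fact (Nat.Prime 11) := ⟨by norm_num⟩
  haveI : (solvableRadical G).Normal := solvableRadical_normal
  have hRn : Nat.card (solvableRadical G) ∣ 95040 := hG ▸ Subgroup.card_subgroup_dvd_card _
  have hr2 : ¬ 11 ^ 2 ∣ Nat.card (solvableRadical G) := fun e => by
    have := e.trans hRn
    norm_num at this
  have hbad : ∀ q i : ℕ, q.Prime → q ≠ 11 → 1 ≤ i → q ^ i ∣ Nat.card (solvableRadical G) →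
      11 ∣ q ^ i - 1 → q = 0 ∧ i = 0 := fun q i hq hne hi hd hr =>
    absurd hr (no_room hq hi (dvd_8640 (hd.trans hRn) fun e =>
      hne ((Nat.prime_dvd_prime_iff_eq (by norm_num) hq).1 ((by norm_num : Nat.Prime 11).dvd_of_dvd_pow e)).symm))
  rcases dichotomy_aux (q := 0) (b := 0) _ (solvableRadical G) rfl isSolvable_solvableRadical h hr2 hbad
    (by simp [Nat.card_pos.ne']) with ⟨A, hA, hc⟩ | ⟨hq, -⟩
  swap
  · exact absurd hq (by norm_num)
  haveI := hA
  set A' := A.map (solvableRadical G).subtype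
  haveI hB : A'.Normal := normal_map_subtype
    (coprime_index (p := 11) (c := 1) rfl (by rw [hc, pow_one]) hr2)
  have hc' : Nat.card A' = 11 := by rw [Subgroup.card_subtype, hc]
  haveI : IsCyclic A' := isCyclic_of_prime_card (p := 11) hc'
  refine not_mem_degreePrimes A' (fun a ha b hb => congrArg Subtype.val
    ((IsCyclic.isMulCommutative (α := A')).is_comm.comm ⟨a, ha⟩ ⟨b, hb⟩)) (fun hi => ?_) h11
  have := A'.card_mul_index
  rw [hc', hG] at this
  rw [show A'.index = 8640 by omega] at hi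
  norm_num at hi

theorem simple_perfect {T : Type u} [Group T] [IsSimpleGroup T] (hT : ¬ IsMulCommutative T) :
    commutator T = ⊤ := by
  refine (IsSimpleGroup.eq_bot_or_eq_top_of_normal _ inferInstance).resolve_left fun h => hT ⟨⟨fun a b => ?_⟩⟩
  have : ⁅a, b⁆ ∈ commutator T := Subgroup.commutator_mem_commutator (Subgroup.mem_top a) (Subgroup.mem_top b)
  rw [h, Subgroup.mem_bot] at this
  exact commutatorElement_eq_one_iff_mul_comm.1 this

/-- A perfect central extension of M11 is trivial. -/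
theorem injective_of_perfect {A : Type u} [Group A] [Finite A] (σ : A →* ↥Spor.M11)
    (hs : Function.Surjective σ) (hc : σ.ker ≤ Subgroup.center A) (hp : commutator A = ⊤) :
    Function.Injective σ := by
  let s : Shrink.{0} A ≃* A := Shrink.mulEquiv
  haveI : Finite (Shrink.{0} A) := Finite.of_equiv A s.symm.toEquiv
  let τ : Shrink.{0} A →* ↥Spor.M11 := σ.comp s.toMonoidHom
  have hstem : IsStemExtension τ := by
    refine ⟨hs.comp s.surjective, fun x hx => Subgroup.mem_center_iff.2 fun g => s.injective ?_, ?_⟩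
    · rw [map_mul, map_mul]
      exact Subgroup.mem_center_iff.1 (hc (show s x ∈ σ.ker from hx)) (s g)
    · intro x _
      have h1 : (commutator A).map s.symm.toMonoidHom ≤ commutator (Shrink.{0} A) := by
        rw [commutator_def, commutator_def, Subgroup.map_commutator]
        exact Subgroup.commutator_mono le_top le_top
      exact h1 ⟨s x, hp ▸ Subgroup.mem_top _, s.symm_apply_apply x⟩
  have hb := CfsgLib.SchurSmall.ker_eq_bot_of_trivial CfsgLib.StemSylow.MathieuEleven.trivial τ hstem
  refine (injective_iff_map_eq_one σ).2 fun a ha => ?_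
  have : s.symm a ∈ τ.ker := by
    show σ (s (s.symm a)) = 1
    rw [s.apply_symm_apply, ha]
  rw [hb, Subgroup.mem_bot] at this
  simpa using congrArg s this

/-- An automorphism of M11 is inner. -/
theorem inner_of_M11 {T : Type u} [Group T] (e : T ≃* ↥Spor.M11) (φ : MulAut T) :
    ∃ t : T, ∀ x, φ x = t * x * t⁻¹ := by
  have h : Inn ↥Spor.M11 = ⊤ := Subgroup.index_eq_one.1 CfsgGolay.OutSmall.out_M11
  obtain ⟨m, hm⟩ : ((e.symm.trans φ).trans e : MulAut ↥Spor.M11) ∈ Inn ↥Spor.M11 := h ▸ Subgroup.mem_top _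
  refine ⟨e.symm m, fun x => e.injective ?_⟩
  have := DFunLike.congr_fun hm (e x)
  simp [MulAut.conj_apply] at this
  simp [this]

theorem groups (hG : Nat.card G = 95040) (hp : 11 ∈ degreePrimes G)
    (h55 : ∃ d ∈ charDegrees G, 55 ∣ d) (h33 : ∃ d ∈ charDegrees G, 33 ∣ d) :
    Nonempty (G ≃* ↥Spor.M12) ∨ Nonempty (G ≃* alternatingGroup (Fin 4) × ↥Spor.M11) := by
  classical
  haveI : Fact (Nat.Prime 11) := ⟨by norm_num⟩
  have hR11 := radical_not_dvd hG hp
  obtain ⟨R, hRn, T, hRdef, hTn, hTs, hTna, hCT⟩ := exists_socle (G := G) hG.dvd fun e => hR11 (by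
    rw [e, Subgroup.card_top, hG]; norm_num)
  haveI := hRn
  haveI := hTn
  haveI := hTs
  rw [← hRdef] at hR11
  have hmul := Subgroup.card_eq_card_quotient_mul_card_subgroup R
  rw [hG] at hmul
  have hQdvd : Nat.card (G ⧸ R) ∣ 95040 := Dvd.intro _ hmul.symm
  have hTdvd : Nat.card T ∣ 95040 := (Subgroup.card_subgroup_dvd_card T).trans hQdvd
  have hsq : ¬ 11 ^ 2 ∣ Nat.card G := by rw [hG]; norm_num
  have hT11 : 11 ∣ Nat.card T := by
    by_contra h
    have hQ11 : 11 ∣ Nat.card (G ⧸ R) :=
      ((by norm_num : Nat.Prime 11).dvd_mul.1 (hmul ▸ by norm_num)).resolve_right hR11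
    obtain ⟨y, hy⟩ := exists_prime_orderOf_dvd_card' 11 hQ11
    have := centralizes_normal hy (fun e => by have := e.trans hQdvd; norm_num at this) h
      (fun q i hq hi hd => no_room hq hi (hd.trans (dvd_8640 hTdvd h)))
    rw [hCT, Subgroup.mem_bot] at this
    rw [this, orderOf_one] at hy
    norm_num at hy
  obtain ⟨x, hx⟩ := exists_prime_orderOf_dvd_card' (G := G) 11 (by rw [hG]; norm_num)
  have hxC : x ∈ Subgroup.centralizer (R : Set G) := centralizes_normal hx hsq hR11
    (fun q i hq hi hd => no_room hq hi (hd.trans (dvd_8640 (hG ▸ Subgroup.card_subgroup_dvd_card R) hR11)))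
  set C := Subgroup.centralizer (R : Set G) with hC
  haveI : C.Normal := Subgroup.normal_centralizer
  have hTle : T ≤ C.map (QuotientGroup.mk' R) := by
    haveI : (C.map (QuotientGroup.mk' R)).Normal := ‹C.Normal›.map _ (QuotientGroup.mk'_surjective R)
    have h1 : (C.map (QuotientGroup.mk' R)).subgroupOf T = ⊥ ∨ (C.map (QuotientGroup.mk' R)).subgroupOf T = ⊤ :=
      IsSimpleGroup.eq_bot_or_eq_top_of_normal _ inferInstance
    rcases h1 with e | e
    · exfalso
      have hd : Disjoint (C.map (QuotientGroup.mk' R)) T := Subgroup.subgroupOf_eq_bot.1 e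
      have hm : QuotientGroup.mk' R x ∈ Subgroup.centralizer (T : Set (G ⧸ R)) :=
        Subgroup.mem_centralizer_iff.2 fun t ht =>
          (Subgroup.commute_of_normal_of_disjoint _ T inferInstance hTn hd _ t ⟨x, hxC, rfl⟩ ht).symm
      rw [hCT, Subgroup.mem_bot, QuotientGroup.mk'_apply, QuotientGroup.eq_one_iff] at hm
      exact hR11 (hx ▸ Subgroup.orderOf_dvd_natCard R hm)
    · exact Subgroup.subgroupOf_eq_top.1 e
  set D := C ⊓ T.comap (QuotientGroup.mk' R) with hD
  haveI : D.Normal := inferInstance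
  let f : D →* T := ((QuotientGroup.mk' R).comp D.subtype).codRestrict T fun z => z.2.2
  have hf : Function.Surjective f := fun t => by
    obtain ⟨c, hc, he⟩ := hTle t.2
    exact ⟨⟨c, hc, show QuotientGroup.mk' R c ∈ T from he ▸ t.2⟩, Subtype.ext he⟩
  have hker : ∀ z : D, z ∈ f.ker ↔ (z : G) ∈ R := fun z => by
    rw [MonoidHom.mem_ker, ← QuotientGroup.eq_one_iff]
    exact ⟨fun h => congrArg Subtype.val h, fun h => Subtype.ext h⟩
  have hcen : f.ker ≤ Subgroup.center D := fun z hz => Subgroup.mem_center_iff.2 fun w =>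
    Subtype.ext (Subgroup.mem_centralizer_iff.1 w.2.1 z ((hker z).1 hz)).symm
  have hidx : f.ker.index = Nat.card T := by
    rw [Subgroup.index_ker, MonoidHom.range_eq_top.2 hf, Subgroup.card_top]
  rcases simple_orders hTna hTdvd hT11 with e | e | e
  · -- the group of order 660 has no room for a degree divisible by 55
    exfalso
    haveI := Fintype.ofFinite G
    haveI := Fintype.ofFinite D
    obtain ⟨d, ⟨χ, rfl⟩, hd⟩ := h55
    obtain ⟨θ, hθ, hc⟩ := CfsgLib.CharTheory.exists_constituent
      (CfsgLib.CharTheory.isCharacter_restrict (CfsgLib.CharTheory.isCharacter_of_irr χ.2) D)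
      fun e => CfsgLib.CharTheory.irr_ne_zero χ.2 (congrFun e 1)
    obtain ⟨k, hk, hkd⟩ := CfsgLib.CharTheory.degree_ratio_dvd χ.2 hθ hc
    rw [← CfsgLib.Blocks.irr_charDegree_cast χ,
      ← CfsgLib.Blocks.charDegree_cast (CfsgLib.CharTheory.isCharacter_of_irr hθ)] at hk
    have hk' : charDegree (χ : G → ℂ) = k * charDegree θ := by exact_mod_cast hk
    have hDm := D.card_mul_index
    rw [← f.ker.card_mul_index, hidx, e, hG] at hDm
    have hi : D.index ∣ 144 := by
      refine ⟨Nat.card f.ker, Nat.eq_of_mul_eq_mul_left (show 0 < 660 by norm_num) ?_⟩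
      calc 660 * 144 = Nat.card f.ker * 660 * D.index := hDm.symm
        _ = 660 * (D.index * Nat.card f.ker) := by ring
    have hk55 : Nat.Coprime 55 k := Nat.Coprime.coprime_dvd_right (hkd.trans hi) (by norm_num)
    have ht : 55 ∣ charDegree θ := hk55.dvd_of_dvd_mul_left (hk' ▸ hd)
    have ht0 : charDegree θ ≠ 0 := fun h => CfsgLib.CharTheory.irr_ne_zero hθ (by
      rw [← CfsgLib.Blocks.charDegree_cast (CfsgLib.CharTheory.isCharacter_of_irr hθ), h, Nat.cast_zero])
    have h1 := (degree_center (G := D) ⟨⟨θ, hθ⟩, rfl⟩).2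
    have h2 : (Subgroup.center D).index ≤ 660 :=
      Nat.le_of_dvd (by norm_num) (e ▸ hidx ▸ Subgroup.index_dvd_of_le hcen)
    have h3 := Nat.pow_le_pow_left (Nat.le_of_dvd (Nat.pos_of_ne_zero ht0) ht) 2
    exact absurd (h3.trans (h1.trans h2)) (by norm_num)
  · -- M11 on top of a radical of order twelve
    haveI := Fintype.ofFinite T
    obtain ⟨e11⟩ := CfsgSimpleM11.unique7920 (G := T) ⟨inferInstance, e⟩ CfsgM11Det.isM11_spor
    have hTtop : T = ⊤ := by
      rw [eq_top_iff]
      intro q _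
      obtain ⟨t, ht⟩ := inner_of_M11 e11 (MulAut.conjNormal q)
      have hm : (t : G ⧸ R)⁻¹ * q ∈ Subgroup.centralizer (T : Set (G ⧸ R)) := by
        refine Subgroup.mem_centralizer_iff.2 fun s hs => ?_
        have h : q * s * q⁻¹ = (t : G ⧸ R) * s * (t : G ⧸ R)⁻¹ := by
          simpa [MulAut.conjNormal_apply] using congrArg Subtype.val (ht ⟨s, hs⟩)
        calc s * ((t : G ⧸ R)⁻¹ * q) = (t : G ⧸ R)⁻¹ * ((t : G ⧸ R) * s * (t : G ⧸ R)⁻¹) * q := by group
          _ = (t : G ⧸ R)⁻¹ * (q * s * q⁻¹) * q := by rw [h]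
          _ = (t : G ⧸ R)⁻¹ * q * s := by group
      rw [hCT, Subgroup.mem_bot, inv_mul_eq_one] at hm
      exact hm ▸ t.2
    have hR12 : Nat.card R = 12 := by
      rw [hTtop, Subgroup.card_top] at e
      rw [e] at hmul
      omega
    set A₀ := commutator D with hA₀
    have hAsurj : A₀.map f = ⊤ := by
      rw [hA₀, commutator_def, Subgroup.map_commutator, ← MonoidHom.range_eq_map,
        MonoidHom.range_eq_top.2 hf, ← commutator_def, simple_perfect hTna]
    have hsplit : ∀ c : D, ∃ a ∈ A₀, a⁻¹ * c ∈ f.ker := fun c => by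
      obtain ⟨a, ha, hae⟩ := (hAsurj.ge (Subgroup.mem_top (f c)) : f c ∈ A₀.map f)
      exact ⟨a, ha, by rw [MonoidHom.mem_ker, map_mul, map_inv, hae, inv_mul_cancel]⟩
    have hperf : A₀ ≤ ⁅A₀, A₀⁆ := by
      conv_lhs => rw [hA₀, commutator_def]
      refine Subgroup.commutator_le.2 fun p _ q _ => ?_
      obtain ⟨a, ha, hz⟩ := hsplit p
      obtain ⟨b, hb, hw⟩ := hsplit q
      have hp' : p = a * (a⁻¹ * p) := by group
      have hq' : q = b * (b⁻¹ * q) := by group
      have hzc := fun g => Subgroup.mem_center_iff.1 (hcen hz) g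
      have hwc := fun g => Subgroup.mem_center_iff.1 (hcen hw) g
      have h1 : ∀ g : D, ⁅p, g⁆ = ⁅a, g⁆ := fun g => by
        rw [hp', commutatorElement_def, commutatorElement_def, mul_inv_rev]
        calc a * (a⁻¹ * p) * g * ((a⁻¹ * p)⁻¹ * a⁻¹) * g⁻¹
            = a * ((a⁻¹ * p) * g) * (a⁻¹ * p)⁻¹ * a⁻¹ * g⁻¹ := by group
          _ = a * (g * (a⁻¹ * p)) * (a⁻¹ * p)⁻¹ * a⁻¹ * g⁻¹ := by rw [hzc g]
          _ = a * g * a⁻¹ * g⁻¹ := by group
      have h2 : ⁅a, q⁆ = ⁅a, b⁆ := by
        rw [hq', commutatorElement_def, commutatorElement_def, mul_inv_rev]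
        calc a * (b * (b⁻¹ * q)) * a⁻¹ * ((b⁻¹ * q)⁻¹ * b⁻¹)
            = a * b * ((b⁻¹ * q) * a⁻¹) * (b⁻¹ * q)⁻¹ * b⁻¹ := by group
          _ = a * b * (a⁻¹ * (b⁻¹ * q)) * (b⁻¹ * q)⁻¹ * b⁻¹ := by rw [hwc a⁻¹]
          _ = a * b * a⁻¹ * b⁻¹ := by group
      rw [h1, h2]
      exact Subgroup.commutator_mem_commutator ha hb
    let σ : A₀ →* ↥Spor.M11 := (e11.toMonoidHom.comp f).comp A₀.subtype
    have hσs : Function.Surjective σ := fun m => by
      obtain ⟨a, ha, hae⟩ := (hAsurj.ge (Subgroup.mem_top (e11.symm m)) : e11.symm m ∈ A₀.map f)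
      exact ⟨⟨a, ha⟩, show e11 (f a) = m by rw [hae, e11.apply_symm_apply]⟩
    have hσk : σ.ker ≤ Subgroup.center A₀ := fun a ha => Subgroup.mem_center_iff.2 fun g => by
      have : (a : D) ∈ f.ker := e11.injective (by rw [map_one]; exact ha)
      exact Subtype.ext (Subgroup.mem_center_iff.1 (hcen this) g)
    have hσp : commutator A₀ = ⊤ := by
      refine Subgroup.map_injective A₀.subtype_injective ?_
      rw [Subgroup.map_subtype_commutator, ← MonoidHom.range_eq_map, Subgroup.range_subtype]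
      exact le_antisymm (Subgroup.commutator_le_self A₀) hperf
    have hσi := injective_of_perfect σ hσs hσk hσp
    let eA : A₀ ≃* ↥Spor.M11 := MulEquiv.ofBijective σ ⟨hσi, hσs⟩
    set A := A₀.map D.subtype with hA
    haveI : A.Normal := by rw [hA, hA₀]; infer_instance
    let eA' : A ≃* ↥Spor.M11 := (A₀.equivMapOfInjective D.subtype D.subtype_injective).symm.trans eA
    have hAc : Nat.card A = 7920 := (Nat.card_congr eA'.toEquiv).trans CfsgGolay.card_sporM11
    have hcomm : ∀ r : R, ∀ a : A, Commute (r : G) (a : G) := fun r a => by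
      obtain ⟨a', ha', he⟩ := a.2
      rw [← he]
      exact Subgroup.mem_centralizer_iff.1 a'.2.1 r r.2
    let g : R × A →* G := R.subtype.noncommCoprod A.subtype hcomm
    have hgi : Function.Injective g := by
      refine (injective_iff_map_eq_one g).2 fun z hz => ?_
      have h1 : (z.1 : G) * z.2 = 1 := hz
      obtain ⟨a', ha', he⟩ := z.2.2
      have hR : (z.2 : G) ∈ R := by rw [eq_inv_of_mul_eq_one_right h1]; exact R.inv_mem z.1.2
      have ha1 : a' ∈ f.ker := (hker a').2 (by rw [show (a' : G) = z.2 from he]; exact hR)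
      have ha2 : (⟨a', ha'⟩ : A₀) = 1 := hσi (by
        rw [map_one]
        show e11 (f a') = 1
        rw [MonoidHom.mem_ker.1 ha1, map_one])
      have h2 : (z.2 : G) = 1 := by
        rw [← he, show a' = 1 from congrArg Subtype.val ha2]; rfl
      rw [h2, mul_one] at h1
      exact Prod.ext (Subtype.ext h1) (Subtype.ext h2)
    have hgb : Function.Bijective g := by
      refine (Nat.bijective_iff_injective_and_card g).2 ⟨hgi, ?_⟩
      rw [Nat.card_prod, hR12, hAc, hG]
    let eG : G ≃* R × A := (MulEquiv.ofBijective g hgb).symm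
    by_cases h3 : ∀ N : Subgroup R, N.Normal → Nat.card N ≠ 3
    · obtain ⟨eR⟩ := CfsgLib.DihedralShape.equiv_alternating_four hR12 h3
      exact Or.inr ⟨eG.trans (eR.prodCongr eA')⟩
    exfalso
    push Not at h3
    obtain ⟨N, hNn, hN3⟩ := h3
    haveI := hNn
    haveI : Fact (Nat.Prime 3) := ⟨Nat.prime_three⟩
    haveI : IsCyclic N := isCyclic_of_prime_card hN3
    have hR3 : (3 : ℕ) ∉ degreePrimes R := not_mem_degreePrimes N (fun a ha b hb => congrArg Subtype.val
      ((IsCyclic.isMulCommutative (α := N)).is_comm.comm ⟨a, ha⟩ ⟨b, hb⟩)) (fun hi => by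
      have := N.card_mul_index
      rw [hN3, hR12] at this
      rw [show N.index = 4 by omega] at hi
      norm_num at hi)
    obtain ⟨d, ⟨χ, rfl⟩, hd⟩ := h33
    haveI := Fintype.ofFinite G
    obtain ⟨φ, ψ, hφ, hψ, hχ⟩ := (Cfsg.Agent.S0188.result _).1
      (CfsgLib.CharTheory.isIrrCharacter_comp_surjective χ.2 eG.symm.toMonoidHom eG.symm.surjective)
    have hprod : charDegree (χ : G → ℂ) = charDegree φ * charDegree ψ := by
      have h1 := congrFun hχ 1
      simp only [map_one, Prod.fst_one, Prod.snd_one] at h1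
      rw [← CfsgLib.Blocks.irr_charDegree_cast χ,
        ← CfsgLib.Blocks.charDegree_cast (CfsgLib.CharTheory.isCharacter_of_irr hφ),
        ← CfsgLib.Blocks.charDegree_cast (CfsgLib.CharTheory.isCharacter_of_irr hψ)] at h1
      exact_mod_cast h1
    have hφ3 : Nat.Coprime 3 (charDegree φ) := Nat.prime_three.coprime_iff_not_dvd.2 fun h =>
      hR3 ⟨Nat.prime_three, _, ⟨⟨φ, hφ⟩, rfl⟩, h⟩
    have h3ψ : 3 ∣ charDegree ψ :=
      hφ3.dvd_of_dvd_mul_left ((Dvd.dvd.trans (by norm_num) hd).trans hprod.dvd)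
    have h11φ : Nat.Coprime 11 (charDegree φ) := by
      refine Nat.Coprime.coprime_dvd_right ?_ (by norm_num : Nat.Coprime 11 12)
      have h := (degree_center (G := R) ⟨⟨φ, hφ⟩, rfl⟩).1
      exact hR12 ▸ h.trans (Subgroup.index_dvd_card _)
    have h11ψ : 11 ∣ charDegree ψ :=
      h11φ.dvd_of_dvd_mul_left ((Dvd.dvd.trans (by norm_num) hd).trans hprod.dvd)
    haveI : IsSimpleGroup ↥Spor.M11 := CfsgM11Det.isM11_spor.1
    have hA11 : IsM11 A := ⟨eA'.isSimpleGroup, hAc⟩
    haveI := Fintype.ofFinite A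
    have hd' := (CfsgSimpleM11.degrees hA11).2 (charDegree ψ)
    have hne : Nat.card {χ : IrrCharacter A // charDegree (χ : A → ℂ) = charDegree ψ} ≠ 0 := by
      haveI : Nonempty {χ : IrrCharacter A // charDegree (χ : A → ℂ) = charDegree ψ} := ⟨⟨⟨ψ, hψ⟩, rfl⟩⟩
      exact Nat.card_pos.ne'
    rw [hd'] at hne
    split_ifs at hne with h1 h2 h3 <;> omega
  · -- M12 itself
    have hQle : Nat.card T ≤ Nat.card (G ⧸ R) := Subgroup.card_le_card_group T
    have hRpos : 0 < Nat.card R := Nat.card_pos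
    have hQ : Nat.card (G ⧸ R) = 95040 := by nlinarith
    have hRb : R = ⊥ := Subgroup.card_eq_one.1 (by nlinarith)
    have hTtop : T = ⊤ := Subgroup.eq_top_of_card_eq T (e.trans hQ.symm)
    let e₁ : T ≃* G ⧸ R := (MulEquiv.subgroupCongr hTtop).trans Subgroup.topEquiv
    let e₂ : G ⧸ R ≃* G := (QuotientGroup.quotientMulEquivOfEq hRb).trans QuotientGroup.quotientBot
    haveI := Fintype.ofFinite G
    exact Or.inl (CfsgSimpleM12.isoM12 ⟨(e₁.trans e₂).symm.isSimpleGroup, hG⟩)

theorem main (hcard : Nat.card G = Nat.card ↥Spor.M12)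
    (hΔ : degreePrimes G = degreePrimes ↥Spor.M12 ∧ degreeGraph G = degreeGraph ↥Spor.M12) :
    Nonempty (G ≃* ↥Spor.M12) ∨ Nonempty (G ≃* alternatingGroup (Fin 4) × ↥Spor.M11) := by
  obtain ⟨⟨d, hd, h55⟩, ⟨d', hd', h33⟩⟩ := spor_degrees
  have a5 : (degreeGraph ↥Spor.M12).Adj 5 11 := ⟨by norm_num, by norm_num, by norm_num, d, hd, h55⟩
  have a3 : (degreeGraph ↥Spor.M12).Adj 3 11 := ⟨by norm_num, by norm_num, by norm_num, d', hd', h33⟩
  rw [← hΔ.2] at a5 a3
  obtain ⟨-, -, -, e, he, he55⟩ := a5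
  obtain ⟨-, -, -, e', he', he33⟩ := a3
  refine groups (hcard.trans CfsgGolay.card_sporM12) ?_ ⟨e, he, he55⟩ ⟨e', he', he33⟩
  exact ⟨by norm_num, e, he, Dvd.dvd.trans (by norm_num) he55⟩

end CfsgM12Det.Graph
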